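import Groth.Agent.Red.K929.ScDatum

/-!
# Bases of root data and finite index embeddings of the lattices
-/

set_option autoImplicit false
open Module Set Function

namespace Groth.Agent.Red.K929.ScDatum

open Groth.Agent.Sga3B

section spans

variable {ι ι₁ M M₁ N N₁ : Type*} [AddCommGroup M] [AddCommGroup M₁] [AddCommGroup N] [AddCommGroup N₁]
  {P : RootPairing ι ℤ M N} {P₁ : RootPairing ι₁ ℤ M₁ N₁}

theorem Spans.of_inj (hs : Spans P) (σ : M₁ →+ M) (hσ : Injective σ) (i : ι ≃ ι₁)
    (h : ∀ a, σ (P₁.root (i a)) = P.root a) : Spans P₁ := by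
  intro m
  obtain ⟨n, hn, hm⟩ := hs (σ m)
  refine ⟨n, hn, ?_⟩
  have h1 : (Submodule.span ℤ (range P₁.root)).map σ.toIntLinearMap = Submodule.span ℤ (range P.root) := by
    rw [Submodule.map_span]
    congr 1
    ext x
    constructor
    · rintro ⟨_, ⟨a, rfl⟩, rfl⟩
      obtain ⟨a, rfl⟩ := i.surjective a
      exact ⟨a, (h a).symm⟩
    · rintro ⟨a, rfl⟩
      exact ⟨_, ⟨i a, rfl⟩, h a⟩
  rw [← h1] at hm
  obtain ⟨x, hx, hxm⟩ := hm
  have h2 : x = n • m := hσ (by
    rw [map_zsmul]
    exact hxm)
  rwa [← h2]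

end spans

section base

variable {ι ι₁ M M₁ : Type*} [Finite ι₁] [AddCommGroup M] [AddCommGroup M₁] [Module.Free ℤ M] [Module.Free ℤ M₁]
  {P : RootPairing ι ℤ M (Module.Dual ℤ M)} {P₁ : RootPairing ι₁ ℤ M₁ (Module.Dual ℤ M₁)}

/-- The coroots. -/
theorem coroot_eq_of_root (hP : P.toLinearMap = Module.Dual.eval ℤ M)
    (hP₁ : P₁.toLinearMap = Module.Dual.eval ℤ M₁) (hs : Spans P) (σ : M₁ →+ M) (hσ : Injective σ) (i : ι ≃ ι₁)
    (h : ∀ a, σ (P₁.root (i a)) = P.root a) (a : ι) (m : M₁) : P₁.coroot (i a) m = P.coroot a (σ m) := by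
  have h1 : (P₁.coroot (i a)).toAddMonoidHom = (P.coroot a).toAddMonoidHom.comp σ :=
    eq_of_roots (hs.of_inj σ hσ i h) fun b => by
      obtain ⟨b, rfl⟩ := i.surjective b
      change P₁.coroot (i a) (P₁.root (i b)) = P.coroot a (σ (P₁.root (i b)))
      rw [h, coroot_root hP, coroot_root hP₁, pairing_eq_of_root hP hP₁ σ hσ i h]
  exact DFunLike.congr_fun h1 m

lemma linearIndependent_reindex {V : Type*} [AddCommGroup V] (i : ι ≃ ι₁) (s : Finset ι) (v : ι → V)
    (v' : ι₁ → V) (hv : ∀ a, v' (i a) = v a) (h : LinearIndependent ℤ (fun x : (s : Set ι) => v x)) :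
    LinearIndependent ℤ (fun x : ((s.map i.toEmbedding : Finset ι₁) : Set ι₁) => v' x) := by
  let g : ((s.map i.toEmbedding : Finset ι₁) : Set ι₁) → (s : Set ι) := fun x => ⟨i.symm x, by
    have := x.2
    simp only [Finset.coe_map, Equiv.coe_toEmbedding, mem_image, Finset.mem_coe] at this
    obtain ⟨y, hy, hxy⟩ := this
    rw [← hxy]
    simpa using hy⟩
  have hg : Injective g := fun x y hxy => by
    apply Subtype.ext
    apply i.symm.injective
    exact congrArg Subtype.val hxy
  have h2 : (fun x : ((s.map i.toEmbedding : Finset ι₁) : Set ι₁) => v' x) = (fun x : (s : Set ι) => v x) ∘ g := by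
    funext x
    change v' x = v (i.symm x)
    rw [← hv, Equiv.apply_symm_apply]
  rw [h2]
  exact LinearIndependent.comp h g hg

/-- Bases transfer along embeddings of the lattices respecting the roots. -/
theorem exists_base (hP : P.toLinearMap = Module.Dual.eval ℤ M)
    (hP₁ : P₁.toLinearMap = Module.Dual.eval ℤ M₁) (hs : Spans P) (σ : M₁ →+ M) (hσ : Injective σ) (i : ι ≃ ι₁)
    (h : ∀ a, σ (P₁.root (i a)) = P.root a) (b : P.Base) :
    ∃ b₁ : P₁.Base, ∀ a, a ∈ b.support ↔ i a ∈ b₁.support := by
  have hc := coroot_eq_of_root hP hP₁ hs σ hσ i h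
  let l : Module.Dual ℤ M →ₗ[ℤ] Module.Dual ℤ M₁ := σ.toIntLinearMap.dualMap
  have hl : ∀ f m, l f m = f (σ m) := fun f m => rfl
  have hlc : ∀ a, l (P.coroot a) = P₁.coroot (i a) := fun a => LinearMap.ext fun m => (hc a m).symm
  have hli : Injective l := fun f g hfg => by
    have := eq_of_roots hs (f := f.toAddMonoidHom) (g := g.toAddMonoidHom) fun a => by
      have h1 := LinearMap.congr_fun hfg (P₁.root (i a))
      rwa [hl, hl, h] at h1
    exact LinearMap.ext fun m => DFunLike.congr_fun this m
  have him : ∀ {V : Type _} (f : ι₁ → V), f '' ((b.support.map i.toEmbedding : Finset ι₁) : Set ι₁) =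
      (fun a => f (i a)) '' (b.support : Set ι) := fun f => by
    rw [Finset.coe_map, image_image]
    rfl
  refine ⟨{
    support := b.support.map i.toEmbedding
    linearIndepOn_root := ?_
    linearIndepOn_coroot := ?_
    root_mem_or_neg_mem := ?_
    coroot_mem_or_neg_mem := ?_ }, fun a => ?_⟩
  · have h1 := linearIndependent_reindex i b.support (fun a => P₁.root (i a)) P₁.root (fun a => rfl) (by
      refine LinearIndependent.of_comp σ.toIntLinearMap ?_
      have h2 : (σ.toIntLinearMap ∘ fun x : (b.support : Set ι) => P₁.root (i x)) = fun x : (b.support : Set ι) =>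
        P.root x := by
        funext x
        exact h x
      rw [h2]
      exact b.linearIndepOn_root)
    exact h1
  · have h1 := linearIndependent_reindex i b.support (fun a => P₁.coroot (i a)) P₁.coroot (fun a => rfl) (by
      have h2 : (fun x : (b.support : Set ι) => P₁.coroot (i x)) = l ∘ fun x : (b.support : Set ι) =>
        P.coroot x := by
        funext x
        exact (hlc x).symm
      rw [h2]
      exact LinearIndependent.map' b.linearIndepOn_coroot l (LinearMap.ker_eq_bot.mpr hli))
    exact h1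
  · intro c
    obtain ⟨a, rfl⟩ := i.surjective c
    have key : ∀ x : M₁, σ x ∈ AddSubmonoid.closure (P.root '' b.support) →
        x ∈ AddSubmonoid.closure (P₁.root '' ((b.support.map i.toEmbedding : Finset ι₁) : Set ι₁)) := by
      intro x hx
      have h1 : AddSubmonoid.closure (P.root '' b.support) =
          (AddSubmonoid.closure (P₁.root '' ((b.support.map i.toEmbedding : Finset ι₁) : Set ι₁))).map σ := by
        rw [AddMonoidHom.map_mclosure, him, image_image]
        simp only [h]
      rw [h1] at hx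
      obtain ⟨y, hy, hxy⟩ := hx
      rwa [← hσ hxy]
    refine (b.root_mem_or_neg_mem a).imp (fun h1 => key _ (by rwa [h])) fun h1 => key _ (by rwa [map_neg, h])
  · intro c
    obtain ⟨a, rfl⟩ := i.surjective c
    have h1 : P₁.coroot '' ((b.support.map i.toEmbedding : Finset ι₁) : Set ι₁) =
        l.toAddMonoidHom '' (P.coroot '' b.support) := by
      rw [him, image_image]
      congr 1
      funext a
      exact (hlc a).symm
    rw [h1, ← hlc]
    refine (b.coroot_mem_or_neg_mem a).imp (map_closure l.toAddMonoidHom _) fun h => ?_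
    have := map_closure l.toAddMonoidHom _ h
    rwa [map_neg] at this
  · change _ ↔ i a ∈ b.support.map i.toEmbedding
    simp

end base

end Groth.Agent.Red.K929.ScDatum
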