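import Groth.Agent.Red.K929.Cover
import Groth.Agent.Red.K929.ScBase
import Groth.Agent.Sga3B.IsomCore

/-!
# The adjoint group of a pinned group
-/

set_option autoImplicit false
open CategoryTheory MonoidalCategory CartesianMonoidalCategory MonObj GrpObj AlgebraicGeometry Limits
universe u

namespace Groth.Agent.Red.K929.AdPin

open Groth.Agent.Sga3B Groth.Agent.Sga3B.DSPts Groth.Agent.Sga3B.IsomCore CenKer AdQ ScDatum Cover

variable {S : Scheme.{u}}

/-- The pinning `D` of `A` comes from the pinning `E` of `H` through `p`. -/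
structure AdData {H A : Over S} [GrpObj H] [GrpObj A] (E : Red.Pinning H) (D : Red.Pinning A) (p : H ⟶ A)
    (σ : D.M →+ E.M) (i : E.idx ≃ D.idx) : Prop where
  adQ : IsAdQ p
  inj : Function.Injective σ
  root : ∀ a, σ (D.P.root (i a)) = E.P.root a
  mem : ∀ a, a ∈ E.base.support ↔ i a ∈ D.base.support
  u : ∀ a, E.u a ≫ p = D.u (i a)
  tor : ∀ (X : Over S) (t : X ⟶ Red.DS S E.M), dT E.toSplitRed t ≫ p = dT D.toSplitRed (t ≫ Red.DSmap S σ)
  gen : ∀ m : D.M, m ∈ AddSubgroup.closure (Set.range D.P.root)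

/-- **The adjoint group of a pinned group.** -/
theorem exists_adData {H : Over S} [GrpObj H] (E : Red.Pinning H) (hs : Spans E.P) :
    ∃ (A : Over S) (_ : GrpObj A) (p : H ⟶ A) (D : Red.Pinning A) (σ : D.M →+ E.M) (i : E.idx ≃ D.idx),
      AdData E D p σ i := by
  obtain ⟨A, _, q, hq, hQ, hA, D, τ, i, em, h1, h2, h3, h4⟩ :=
    Groth.Agent.S5537.result E.toSplitRed (AddSubgroup.closure (Set.range E.P.root))
      (fun a => AddSubgroup.subset_closure ⟨a, rfl⟩)
  let σ : D.M →+ E.M := (AddSubgroup.closure (Set.range E.P.root)).subtype.comp em.toAddMonoidHom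
  have hσ : Function.Injective σ := Subtype.val_injective.comp em.injective
  obtain ⟨b, hb⟩ := exists_base E.pairing_eq D.pairing_eq hs σ hσ i h3 E.base
  refine ⟨A, inferInstance, q, { toSplitRed := D, base := b }, σ, i, ?_, hσ, h3, hb, h4, fun X t => ?_, fun m => ?_⟩
  · exact isAdQ_of_isQuotient E.toSplitRed (AddSubgroup.closure (Set.range E.P.root))
      (fun a => AddSubgroup.subset_closure ⟨a, rfl⟩) le_rfl hQ
  · change (t ≫ E.split.inv.hom.hom ≫ E.i) ≫ q = (t ≫ Red.DSmap S σ) ≫ D.split.inv.hom.hom ≫ D.i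
    have e1 : τ = E.split.hom.hom.hom ≫ Red.DSmap S σ ≫ D.split.inv.hom.hom := by
      rw [← Category.assoc E.split.hom.hom.hom, ← h2, Category.assoc, K217.CentKer.split_hom_inv, Category.comp_id]
    rw [Category.assoc, Category.assoc, ← h1, e1]
    simp only [Category.assoc]
    rw [← Category.assoc E.split.inv.hom.hom E.split.hom.hom.hom, K217.CentKer.split_inv_hom, Category.id_comp]
  · have h5 : (em m : E.M) ∈ AddSubgroup.closure (Set.range E.P.root) := (em m).2
    have h6 : AddSubgroup.closure (Set.range E.P.root) = (AddSubgroup.closure (Set.range D.P.root)).map σ := by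
      rw [AddMonoidHom.map_closure]
      congr 1
      ext x
      constructor
      · rintro ⟨a, rfl⟩
        exact ⟨_, ⟨i a, rfl⟩, h3 a⟩
      · rintro ⟨_, ⟨c, rfl⟩, rfl⟩
        obtain ⟨a, rfl⟩ := i.surjective c
        exact ⟨a, (h3 a).symm⟩
    obtain ⟨y, hy, hym⟩ := h6.le h5
    have : y = m := hσ hym
    rwa [← this]

end Groth.Agent.Red.K929.AdPin
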