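import Groth.Agent.Red.K929.CenKer
import Groth.Agent.Sga3C.QuotProps
import Groth.Agent.S0115
import Groth.Agent.Flat2D.LfpComp
import Groth.Agent.Sga3B.Parab.FibIsoSch

/-!
# Quotients by the centre

* `exists_lift`: points lift along flat surjective homomorphisms, locally;
* `AdQ p`: `p` is faithfully flat and its kernel is the centre;
* `exists_adQ`: if `f : H ⟶ G` has central kernel, `H` semisimple, then a quotient of `H` by its centre is a
  quotient of `G` by its centre;
* `AdQ.exists_iso`: uniqueness.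
-/

set_option autoImplicit false
open CategoryTheory MonoidalCategory CartesianMonoidalCategory MonObj GrpObj AlgebraicGeometry Limits
universe u

namespace Groth.Agent.Red.K929.AdQ

open Groth.Agent.Sga3B CenKer Groth.Agent.Sga3C

variable {S : Scheme.{u}}

/-- Points lift along flat surjective morphisms after a flat surjective morphism. -/
theorem exists_lift {H G T : Over S} (f : H ⟶ G) [Flat f.left] [Surjective f.left] (x : T ⟶ G) :
    ∃ (T' : Over S) (t : T' ⟶ T) (y : T' ⟶ H), Flat t.left ∧ Surjective t.left ∧ Epi t ∧ y ≫ f = t ≫ x ∧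
      (LocallyOfFinitePresentation f.left → LocallyOfFinitePresentation t.left) := by
  have sq := (IsPullback.of_hasPullback f x).map (Over.forget S)
  have h1 : Flat (pullback.snd f x).left :=
    MorphismProperty.of_isPullback (P := @Flat) sq (show Flat f.left from inferInstance)
  have h2 : Surjective (pullback.snd f x).left :=
    MorphismProperty.of_isPullback (P := @Surjective) sq (show Surjective f.left from inferInstance)
  refine ⟨pullback f x, pullback.snd f x, pullback.fst f x, h1, h2, QuotProps.epi_of_flat_surjective _,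
    pullback.condition, fun h3 => ?_⟩
  exact MorphismProperty.of_isPullback (P := @LocallyOfFinitePresentation) sq h3

section cent

variable {G H A : Over S} [GrpObj G] [GrpObj H] [GrpObj A]

lemma Cent.comp {T T' : Over S} {z : T ⟶ G} (h : Cent z) (t : T' ⟶ T) : Cent (t ≫ z) := fun T'' x y => by
  have := h T'' (x ≫ t) y
  rwa [Category.assoc] at this

lemma Cent.of_epi {T T' : Over S} {z : T ⟶ G} (t : T' ⟶ T) [Flat t.left] [Surjective t.left]
    (h : Cent (t ≫ z)) : Cent z := by
  intro T₁ x y
  obtain ⟨T₂, s, w, -, -, h3, h4, -⟩ := exists_lift t x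
  rw [← cancel_epi s, MonObj.comp_mul, MonObj.comp_mul]
  have := h T₂ w (s ≫ y)
  rwa [← Category.assoc, h4, Category.assoc] at this

lemma Cent.commute {T : Over S} {z : T ⟶ G} (h : Cent z) (y : T ⟶ G) : z * y = y * z := by
  have := h T (𝟙 T) y
  rwa [Category.id_comp] at this

/-- images of central points under faithfully flat homomorphisms are central -/
theorem Cent.map {T : Over S} {z : T ⟶ H} (h : Cent z) (f : H ⟶ G) [IsMonHom f] [Flat f.left]
    [Surjective f.left] : Cent (z ≫ f) := by
  intro T' x y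
  obtain ⟨T'', t, w, -, -, h3, h4, -⟩ := exists_lift f y
  rw [← cancel_epi t, MonObj.comp_mul, MonObj.comp_mul, ← h4]
  have h5 := h T'' (t ≫ x) w
  have h6 := congrArg (fun v => v ≫ f) h5
  beta_reduce at h6
  rw [MonObj.mul_comp, MonObj.mul_comp] at h6
  simpa only [Category.assoc] using h6

theorem cent_iff (hH : Red.IsSemisimple H) (f : H ⟶ G) [IsMonHom f] [Flat f.left] [Surjective f.left]
    (hf : CK f) {T : Over S} (z : T ⟶ H) : Cent (z ≫ f) ↔ Cent z := by
  refine ⟨fun h => cent_of_comp hH f hf z fun T' x y => ?_, fun h => Cent.map h f⟩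
  have := h T' x (y ≫ f)
  rwa [← Category.assoc] at this

/-- `p` is faithfully flat and its kernel is the centre. -/
structure IsAdQ (p : H ⟶ A) : Prop where
  mon : IsMonHom p
  flat : Flat p.left
  surj : Surjective p.left
  lfp : LocallyOfFinitePresentation p.left
  one_iff : ∀ (T : Over S) (z : T ⟶ H), z ≫ p = 1 ↔ Cent z

lemma IsAdQ.ck {p : H ⟶ A} (h : IsAdQ p) : CK p := fun T k y hk =>
  Cent.commute ((h.one_iff T k).mp hk) y

/-- Homomorphisms descend along faithfully flat homomorphisms. -/
theorem exists_desc {G Q P : Over S} [GrpObj G] [GrpObj Q] [GrpObj P] (q : G ⟶ Q)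
    [IsMonHom q] [Flat q.left] [Surjective q.left] [LocallyOfFinitePresentation q.left]
    (φ : G ⟶ P) [IsMonHom φ] (h : ∀ (T : Over S) (z : T ⟶ G), z ≫ q = 1 → z ≫ φ = 1) :
    ∃ ψ : Q ⟶ P, IsMonHom ψ ∧ q ≫ ψ = φ := by
  obtain ⟨ψ, hψ⟩ := QuotProps.exists_desc q φ (fun T x y hxy => by
    have h1 := h T (x * y⁻¹) (by rw [MonObj.mul_comp, GrpObj.inv_comp, hxy, mul_inv_cancel])
    rw [MonObj.mul_comp, GrpObj.inv_comp] at h1
    exact mul_inv_eq_one.mp h1)
  refine ⟨ψ, Pts.isMonHom_of_points _ fun X x y => ?_, hψ⟩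
  obtain ⟨X₁, t₁, x₁, -, -, _, h1, -⟩ := exists_lift q x
  obtain ⟨X₂, t₂, y₂, -, -, _, h2, -⟩ := exists_lift q (t₁ ≫ y)
  rw [← cancel_epi t₁, ← cancel_epi t₂, ← Category.assoc t₁, MonObj.comp_mul, ← Category.assoc t₂,
    MonObj.comp_mul, MonObj.comp_mul, MonObj.comp_mul, ← h2, ← h1, ← Category.assoc t₂, ← MonObj.mul_comp,
    Category.assoc _ q, hψ, MonObj.mul_comp]
  congr 1
  · rw [← Category.assoc t₁, ← h1]
    simp only [Category.assoc, hψ]
  · rw [← Category.assoc t₁, ← Category.assoc t₂, ← h2]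
    simp only [Category.assoc, hψ]

/-- A quotient of `H` by its centre gives a quotient of `G` by its centre, for `f : H ⟶ G` faithfully flat with
central kernel. -/
theorem exists_adQ (hH : Red.IsSemisimple H) (f : H ⟶ G) [IsMonHom f] [Flat f.left] [Surjective f.left]
    [LocallyOfFinitePresentation f.left] (hf : CK f) [LocallyOfFinitePresentation G.hom]
    [LocallyOfFiniteType A.hom] {p : H ⟶ A} (hp : IsAdQ p) : ∃ a : G ⟶ A, f ≫ a = p ∧ IsAdQ a := by
  have := hp.mon
  have := hp.flat
  have := hp.surj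
  obtain ⟨a, ha1, ha2⟩ := exists_desc f p fun T z hz =>
    (hp.one_iff T z).mpr ((cent_iff hH f hf z).mp (by rw [hz]; intro T' x y; rw [MonObj.comp_one, _root_.one_mul, _root_.mul_one]))
  have e : f.left ≫ a.left = p.left := by rw [← Over.comp_left, ha2]
  have h1 : Flat a.left := by
    have : Flat (f.left ≫ a.left) := by rw [e]; infer_instance
    exact Groth.Agent.S0115.flat_of_comp f.left a.left
  have h2 : Surjective a.left := by
    have : Surjective (f.left ≫ a.left) := by rw [e]; infer_instance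
    exact Surjective.of_comp f.left a.left
  have h3 : LocallyOfFinitePresentation a.left := by
    have : LocallyOfFinitePresentation (a.left ≫ A.hom) := by rw [Over.w]; infer_instance
    exact Groth.Agent.Flat2D.LfpComp.lfp_of_comp a.left A.hom
  refine ⟨a, ha2, ⟨ha1, h1, h2, h3, fun T z => ?_⟩⟩
  obtain ⟨T', t, y, ht1, ht2, ht3, h4, -⟩ := exists_lift f z
  have key : (t ≫ z) ≫ a = 1 ↔ Cent (t ≫ z) := by
    rw [← h4, Category.assoc, ha2, hp.one_iff, cent_iff hH f hf]
  constructor
  · intro hz
    exact Cent.of_epi t (key.mp (by rw [Category.assoc, hz, MonObj.comp_one]))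
  · intro hz
    have h5 := key.mpr (Cent.comp hz t)
    rw [← cancel_epi t, ← Category.assoc, h5, MonObj.comp_one]

/-- Uniqueness of the quotient by the centre. -/
theorem IsAdQ.exists_iso {A' : Over S} [GrpObj A'] {a : G ⟶ A} {a' : G ⟶ A'} (h : IsAdQ a) (h' : IsAdQ a') :
    ∃ b : Grp.mk A ≅ Grp.mk A', a ≫ b.hom.hom.hom = a' := by
  have := h.mon; have := h.flat; have := h.surj; have := h.lfp
  have := h'.mon; have := h'.flat; have := h'.surj; have := h'.lfp
  obtain ⟨b, hb1, hb2⟩ := exists_desc a a' fun T z hz => (h'.one_iff T z).mpr ((h.one_iff T z).mp hz)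
  obtain ⟨c, hc1, hc2⟩ := exists_desc a' a fun T z hz => (h.one_iff T z).mpr ((h'.one_iff T z).mp hz)
  have e1 : Epi a := QuotProps.epi_of_flat_surjective a
  have e2 : Epi a' := QuotProps.epi_of_flat_surjective a'
  have i1 : b ≫ c = 𝟙 A := by rw [← cancel_epi a, ← Category.assoc, hb2, hc2, Category.comp_id]
  have i2 : c ≫ b = 𝟙 A' := by rw [← cancel_epi a', ← Category.assoc, hc2, hb2, Category.comp_id]
  let e : A ≅ A' := ⟨b, c, i1, i2⟩
  have : IsMonHom e.hom := hb1
  exact ⟨Grp.mkIso' e, hb2⟩

theorem IsAdQ.comp_iso {A' : Over S} [GrpObj A'] {a : G ⟶ A} (h : IsAdQ a) (b : Grp.mk A ≅ Grp.mk A') :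
    IsAdQ (a ≫ b.hom.hom.hom) := by
  have := h.mon; have := h.flat; have := h.surj; have := h.lfp
  have hb : IsIso b.hom.hom.hom := ((Grp.forget _).mapIso b).isIso_hom
  have hbm : Mono b.hom.hom.hom := inferInstance
  have hb' : IsIso b.hom.hom.hom.left := inferInstance
  refine ⟨inferInstance, ?_, ?_, ?_, fun T z => ?_⟩
  · rw [Over.comp_left]; infer_instance
  · rw [Over.comp_left]; infer_instance
  · rw [Over.comp_left]; infer_instance
  · rw [← h.one_iff, ← Category.assoc]
    constructor
    · intro hz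
      rw [← cancel_mono b.hom.hom.hom, hz, MonObj.one_comp]
    · intro hz
      rw [hz, MonObj.one_comp]

/-- precomposition with an isomorphism -/
theorem IsAdQ.iso_comp {H' : Over S} [GrpObj H'] (b : Grp.mk H' ≅ Grp.mk H) {a : H ⟶ A} (h : IsAdQ a) :
    IsAdQ (b.hom.hom.hom ≫ a) := by
  have := h.mon; have := h.flat; have := h.surj; have := h.lfp
  have hb : IsIso b.hom.hom.hom := ((Grp.forget _).mapIso b).isIso_hom
  have hb' : IsIso b.hom.hom.hom.left := inferInstance
  refine ⟨inferInstance, ?_, ?_, ?_, fun T z => ?_⟩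
  · rw [Over.comp_left]; infer_instance
  · rw [Over.comp_left]; infer_instance
  · rw [Over.comp_left]; infer_instance
  · rw [← Category.assoc, h.one_iff]
    constructor
    · intro hz T' x y
      have h1 := hz T' x (y ≫ b.hom.hom.hom)
      rw [← cancel_mono b.hom.hom.hom, MonObj.mul_comp, MonObj.mul_comp]
      simpa only [Category.assoc] using h1
    · intro hz
      exact Cent.map hz b.hom.hom.hom

end cent

section bc

variable {S' : Scheme.{u}} (f : S' ⟶ S) {H A : Over S} [GrpObj H] [GrpObj A]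

open BcPts in
lemma cent_bc_iff {T : Over S'} (z : (Over.map f).obj T ⟶ H) :
    Cent (G := Red.bc f H) (bcEquiv f T H z) ↔ Cent z := by
  constructor
  · intro h T' x y
    let T₁ : Over S' := Over.mk (x.left ≫ T.hom)
    let i : T' ⟶ (Over.map f).obj T₁ := Over.homMk (𝟙 _) (by
      have := Over.w x
      simpa [T₁] using this)
    let j : (Over.map f).obj T₁ ⟶ T' := Over.homMk (𝟙 _) (by
      have := Over.w x
      simpa [T₁] using this.symm)
    let x₁ : T₁ ⟶ T := Over.homMk x.left rfl
    have h1 := h T₁ x₁ (bcEquiv f T₁ H (j ≫ y))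
    rw [← comp_bcEquiv, ← bcEquiv_mul, ← bcEquiv_mul] at h1
    have h2 := (bcEquiv f T₁ H).injective h1
    have h3 := congrArg (fun v => i ≫ v) h2
    beta_reduce at h3
    rw [MonObj.comp_mul, MonObj.comp_mul] at h3
    have e1 : i ≫ (Over.map f).map x₁ = x := by ext1; simp [i, x₁]
    have e2 : i ≫ j = 𝟙 _ := by ext1; simp [i, j]
    rwa [← Category.assoc, e1, ← Category.assoc, e2, Category.id_comp] at h3
  · intro h T' x y
    obtain ⟨y, rfl⟩ := (bcEquiv f T' H).surjective y
    rw [← comp_bcEquiv, ← bcEquiv_mul, ← bcEquiv_mul, h]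

open BcPts in
theorem IsAdQ.bc {p : H ⟶ A} (h : IsAdQ p) : IsAdQ (H := Red.bc f H) (A := Red.bc f A) ((Over.pullback f).map p) := by
  have := h.mon
  have sq := Parab.FibIsoSch.isPullback_map_left f p
  refine ⟨inferInstance, MorphismProperty.of_isPullback sq h.flat, MorphismProperty.of_isPullback sq h.surj,
    MorphismProperty.of_isPullback sq h.lfp, fun T z => ?_⟩
  obtain ⟨z, rfl⟩ := (bcEquiv f T H).surjective z
  have e : bcEquiv f T H z ≫ (Over.pullback f).map p = bcEquiv f T A (z ≫ p) := (bcEquiv_comp f z p).symm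
  rw [cent_bc_iff, ← h.one_iff]
  constructor
  · intro h1
    exact (bcEquiv f T A).injective ((e.symm.trans h1).trans (bcEquiv_one f).symm)
  · intro h1
    exact e.trans ((congrArg _ h1).trans (bcEquiv_one f))

end bc

end Groth.Agent.Red.K929.AdQ
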