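import Groth.Prelude.Def_Red
import Groth.Agent.Sga3B.BcPts
import Groth.Agent.Sga3B.Pts

/-!
# Homomorphisms between base changes along different morphisms, on points

For `H` over `U`, `H'` over `U'`, `x : T ⟶ U`, `y : T ⟶ U'`, `α : bc x H ⟶ bc y H'`:
* `app α g v`: the value of `α` at a point `v` of `H` over `g ≫ x`, a point of `H'` over `g ≫ y`;
* `res α g`: the restriction of `α` along `g`.
-/

set_option autoImplicit false
set_option backward.isDefEq.respectTransparency false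
set_option backward.isDefEq.respectTransparency.types false
open CategoryTheory MonoidalCategory CartesianMonoidalCategory MonObj GrpObj AlgebraicGeometry Limits
universe u

namespace Groth.Agent.Red.K929.App

open Groth.Agent.Sga3B Groth.Agent.Sga3B.BcPts

section mulPt

variable {U : Scheme.{u}} {H : Over U} [GrpObj H] {W W' : Scheme.{u}}

/-- the product of two points over `a` -/
noncomputable def mulPt (a : W ⟶ U) (v v' : W ⟶ H.left) (hv : v ≫ H.hom = a) (hv' : v' ≫ H.hom = a) : W ⟶ H.left :=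
  ((Over.homMk v hv : Over.mk a ⟶ H) * (Over.homMk v' hv' : Over.mk a ⟶ H)).left

lemma mulPt_hom (a : W ⟶ U) (v v' : W ⟶ H.left) (hv : v ≫ H.hom = a) (hv' : v' ≫ H.hom = a) :
    mulPt a v v' hv hv' ≫ H.hom = a := Over.w _

lemma mulPt_congr {a a' : W ⟶ U} (ha : a = a') {v v₁ v' v₁' : W ⟶ H.left} (h : v = v₁) (h' : v' = v₁')
    (hv : v ≫ H.hom = a) (hv' : v' ≫ H.hom = a) :
    mulPt a v v' hv hv' = mulPt a' v₁ v₁' (by rw [← h, ← ha, hv]) (by rw [← h', ← ha, hv']) := by
  subst ha; subst h; subst h'; rfl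

lemma comp_mulPt (g : W' ⟶ W) (a : W ⟶ U) (v v' : W ⟶ H.left) (hv : v ≫ H.hom = a) (hv' : v' ≫ H.hom = a) :
    g ≫ mulPt a v v' hv hv' = mulPt (g ≫ a) (g ≫ v) (g ≫ v') (by rw [Category.assoc, hv])
      (by rw [Category.assoc, hv']) := by
  let g' : Over.mk (g ≫ a) ⟶ Over.mk a := Over.homMk g rfl
  have h := congrArg (fun k => k.left) (MonObj.comp_mul g' (Over.homMk v hv : Over.mk a ⟶ H) (Over.homMk v' hv'))
  exact h

/-- points of `H` over `X : Over U` -/
lemma mul_left {X : Over U} (y y' : X ⟶ H) : (y * y').left = mulPt X.hom y.left y'.left (Over.w y) (Over.w y') := rfl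

end mulPt

section app

variable {U U' U'' T W W' : Scheme.{u}} {H : Over U} {H' : Over U'} {H'' : Over U''} {x : T ⟶ U} {y : T ⟶ U'}
  {z : T ⟶ U''}

/-- The value of `α` at a point. -/
noncomputable def app (α : Red.bc x H ⟶ Red.bc y H') (g : W ⟶ T) (v : W ⟶ H.left) (hv : v ≫ H.hom = g ≫ x) :
    W ⟶ H'.left :=
  pullback.lift v g hv ≫ α.left ≫ pullback.fst H'.hom y

lemma lift_left (α : Red.bc x H ⟶ Red.bc y H') (g : W ⟶ T) (v : W ⟶ H.left) (hv : v ≫ H.hom = g ≫ x) :
    pullback.lift v g hv ≫ α.left ≫ pullback.snd H'.hom y = g := by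
  have h := Over.w α
  change α.left ≫ pullback.snd H'.hom y = pullback.snd H.hom x at h
  rw [h, pullback.lift_snd]

lemma app_hom (α : Red.bc x H ⟶ Red.bc y H') (g : W ⟶ T) (v : W ⟶ H.left) (hv : v ≫ H.hom = g ≫ x) :
    app α g v hv ≫ H'.hom = g ≫ y := by
  rw [app, Category.assoc, Category.assoc, pullback.condition, ← Category.assoc α.left, ← Category.assoc,
    lift_left]

lemma lift_app (α : Red.bc x H ⟶ Red.bc y H') (g : W ⟶ T) (v : W ⟶ H.left) (hv : v ≫ H.hom = g ≫ x) :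
    pullback.lift (app α g v hv) g (app_hom α g v hv) = pullback.lift v g hv ≫ α.left := by
  apply pullback.hom_ext
  · rw [pullback.lift_fst, Category.assoc, app]
  · rw [pullback.lift_snd, Category.assoc, lift_left]

lemma comp_app (α : Red.bc x H ⟶ Red.bc y H') (k : W' ⟶ W) (g : W ⟶ T) (v : W ⟶ H.left)
    (hv : v ≫ H.hom = g ≫ x) (hv' : (k ≫ v) ≫ H.hom = (k ≫ g) ≫ x) :
    k ≫ app α g v hv = app α (k ≫ g) (k ≫ v) hv' := by
  rw [app, app, ← Category.assoc]
  congr 1
  apply pullback.hom_ext <;> simp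

lemma app_congr (α : Red.bc x H ⟶ Red.bc y H') {g g' : W ⟶ T} (hg : g = g') {v v' : W ⟶ H.left} (h : v = v')
    (hv : v ≫ H.hom = g ≫ x) : app α g v hv = app α g' v' (by rw [← h, ← hg, hv]) := by
  subst hg; subst h; rfl

lemma app_app (α : Red.bc x H ⟶ Red.bc y H') (β : Red.bc y H' ⟶ Red.bc z H'') (g : W ⟶ T) (v : W ⟶ H.left)
    (hv : v ≫ H.hom = g ≫ x) :
    app β g (app α g v hv) (app_hom α g v hv) = app (α ≫ β) g v hv := by
  rw [app, lift_app, app, Over.comp_left, Category.assoc, Category.assoc]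

lemma app_id (g : W ⟶ T) (v : W ⟶ H.left) (hv : v ≫ H.hom = g ≫ x) : app (𝟙 (Red.bc x H)) g v hv = v := by
  rw [app, Over.id_left]
  change _ ≫ 𝟙 _ ≫ _ = _
  rw [Category.id_comp, pullback.lift_fst]

/-- morphisms are determined by their values -/
lemma ext_app {α β : Red.bc x H ⟶ Red.bc y H'}
    (h : ∀ ⦃W : Scheme.{u}⦄ (g : W ⟶ T) (v : W ⟶ H.left) (hv : v ≫ H.hom = g ≫ x), app α g v hv = app β g v hv) :
    α = β := by
  ext1
  have h1 := h (pullback.snd H.hom x) (pullback.fst H.hom x) pullback.condition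
  have e : pullback.lift (pullback.fst H.hom x) (pullback.snd H.hom x) pullback.condition = 𝟙 _ := by
    apply pullback.hom_ext <;> simp
  rw [app, app, e, Category.id_comp, Category.id_comp] at h1
  apply pullback.hom_ext
  · exact h1
  · exact (Over.w α).trans (Over.w β).symm

/-- the morphism with given values -/
noncomputable def mk (F : ∀ ⦃W : Scheme.{u}⦄ (g : W ⟶ T) (v : W ⟶ H.left), v ≫ H.hom = g ≫ x → (W ⟶ H'.left))
    (hF : ∀ ⦃W : Scheme.{u}⦄ (g : W ⟶ T) (v : W ⟶ H.left) (hv : v ≫ H.hom = g ≫ x), F g v hv ≫ H'.hom = g ≫ y) :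
    Red.bc x H ⟶ Red.bc y H' :=
  Over.homMk (pullback.lift (F (pullback.snd H.hom x) (pullback.fst H.hom x) pullback.condition)
    (pullback.snd H.hom x) (hF _ _ _)) (pullback.lift_snd _ _ _)

lemma app_mk (F : ∀ ⦃W : Scheme.{u}⦄ (g : W ⟶ T) (v : W ⟶ H.left), v ≫ H.hom = g ≫ x → (W ⟶ H'.left))
    (hF : ∀ ⦃W : Scheme.{u}⦄ (g : W ⟶ T) (v : W ⟶ H.left) (hv : v ≫ H.hom = g ≫ x), F g v hv ≫ H'.hom = g ≫ y)
    (hn : ∀ ⦃W W' : Scheme.{u}⦄ (k : W' ⟶ W) (g : W ⟶ T) (v : W ⟶ H.left) (hv : v ≫ H.hom = g ≫ x)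
      (hv' : (k ≫ v) ≫ H.hom = (k ≫ g) ≫ x), k ≫ F g v hv = F (k ≫ g) (k ≫ v) hv')
    (g : W ⟶ T) (v : W ⟶ H.left) (hv : v ≫ H.hom = g ≫ x) : app (mk (y := y) F hF) g v hv = F g v hv := by
  have e : ∀ {g' : W ⟶ T} (hg : g' = g) {v' : W ⟶ H.left} (h : v' = v) (hv' : v' ≫ H.hom = g' ≫ x),
      F g' v' hv' = F g v hv := by
    intro g' hg v' h hv'
    subst hg; subst h; rfl
  rw [app]
  change _ ≫ pullback.lift _ _ _ ≫ _ = _
  rw [pullback.lift_fst, hn _ _ _ _ (by rw [pullback.lift_snd, pullback.lift_fst, hv])]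
  exact e (pullback.lift_snd _ _ _) (pullback.lift_fst _ _ _) _

/-- restriction along `g` -/
noncomputable def res (α : Red.bc x H ⟶ Red.bc y H') (k : W ⟶ T) : Red.bc (k ≫ x) H ⟶ Red.bc (k ≫ y) H' :=
  mk (fun _ g v hv => app α (g ≫ k) v (by rw [hv, Category.assoc]))
    (fun _ g v hv => by rw [app_hom, Category.assoc])

lemma app_res (α : Red.bc x H ⟶ Red.bc y H') (k : W ⟶ T) (g : W' ⟶ W) (v : W' ⟶ H.left)
    (hv : v ≫ H.hom = g ≫ k ≫ x) : app (res α k) g v hv = app α (g ≫ k) v (by rw [hv, Category.assoc]) := by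
  rw [res, app_mk]
  intro W W' k' g v hv hv'
  rw [comp_app α k' (g ≫ k) v _ (by rw [hv', Category.assoc, Category.assoc, Category.assoc])]
  exact app_congr α (Category.assoc _ _ _).symm rfl _

end app

section hom

variable {U U' T W : Scheme.{u}} {H : Over U} {H' : Over U'} [GrpObj H] [GrpObj H'] {x : T ⟶ U} {y : T ⟶ U'}

/-- the point of the base change given by a point -/
lemma bcEquiv_left {X : Over T} (v : (Over.map x).obj X ⟶ H) :
    (bcEquiv x X H v).left = pullback.lift v.left X.hom (Over.w v) := by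
  change ((Over.mapPullbackAdj x).homEquiv _ _ v).left = _
  rw [Adjunction.homEquiv_unit]
  apply pullback.hom_ext
  · simp
    exact Category.id_comp _
  · exact (Over.w ((Over.mapPullbackAdj x).unit.app X ≫ (Over.pullback x).map v)).trans
      (pullback.lift_snd _ _ _).symm

lemma mul_lift {X : Over T} (v v' : X.left ⟶ H.left) (hv : v ≫ H.hom = X.hom ≫ x) (hv' : v' ≫ H.hom = X.hom ≫ x) :
    ((Over.homMk (pullback.lift v X.hom hv) (pullback.lift_snd _ _ _) : X ⟶ Red.bc x H) *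
      Over.homMk (pullback.lift v' X.hom hv') (pullback.lift_snd _ _ _)) =
      Over.homMk (pullback.lift (mulPt (X.hom ≫ x) v v' hv hv') X.hom (mulPt_hom _ _ _ _ _))
        (pullback.lift_snd _ _ _) := by
  have e : ∀ (w : X.left ⟶ H.left) (hw : w ≫ H.hom = X.hom ≫ x),
      (Over.homMk (pullback.lift w X.hom hw) (pullback.lift_snd _ _ _) : X ⟶ Red.bc x H) =
        bcEquiv x X H (Over.homMk w hw) := by
    intro w hw
    ext1
    exact (bcEquiv_left (Over.homMk w hw : (Over.map x).obj X ⟶ H)).symm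
  rw [e, e, e, ← bcEquiv_mul]
  rfl

/-- homomorphisms in terms of values -/
theorem isMonHom_iff (α : Red.bc x H ⟶ Red.bc y H') : IsMonHom α ↔
    ∀ ⦃W : Scheme.{u}⦄ (g : W ⟶ T) (v v' : W ⟶ H.left) (hv : v ≫ H.hom = g ≫ x) (hv' : v' ≫ H.hom = g ≫ x),
      app α g (mulPt (g ≫ x) v v' hv hv') (mulPt_hom _ _ _ _ _) =
        mulPt (g ≫ y) (app α g v hv) (app α g v' hv') (app_hom _ _ _ _) (app_hom _ _ _ _) := by
  have e : ∀ {X : Over T} (v : X.left ⟶ H.left) (hv : v ≫ H.hom = X.hom ≫ x),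
      (Over.homMk (pullback.lift v X.hom hv) (pullback.lift_snd _ _ _) : X ⟶ Red.bc x H) ≫ α =
        Over.homMk (pullback.lift (app α X.hom v hv) X.hom (app_hom _ _ _ _)) (pullback.lift_snd _ _ _) := by
    intro X v hv
    ext1
    exact (lift_app α X.hom v hv).symm
  constructor
  · intro h W g v v' hv hv'
    have h1 := MonObj.mul_comp (Over.homMk (pullback.lift v g hv) (pullback.lift_snd _ _ _) : Over.mk g ⟶ Red.bc x H)
      (Over.homMk (pullback.lift v' g hv') (pullback.lift_snd _ _ _)) α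
    have h2 := mul_lift (X := Over.mk g) v v' hv hv'
    have h3 := e (X := Over.mk g) (mulPt (g ≫ x) v v' hv hv') (mulPt_hom _ _ _ _ _)
    have h4 := mul_lift (X := Over.mk g) (x := y) (app α g v hv) (app α g v' hv') (app_hom _ _ _ _) (app_hom _ _ _ _)
    have h5 := (congrArg (fun w => w ≫ α) h2).symm.trans h1
    have h6 := h3.symm.trans (h5.trans ((congrArg₂ (fun a b => a * b) (e (X := Over.mk g) v hv)
      (e (X := Over.mk g) v' hv')).trans h4))
    have h7 := congrArg (fun w => w.left ≫ pullback.fst H'.hom y) h6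
    simpa using h7
  · intro h
    refine Pts.isMonHom_of_points _ fun X a b => ?_
    have ea : ∀ a : X ⟶ Red.bc x H, ∃ (v : X.left ⟶ H.left) (hv : v ≫ H.hom = X.hom ≫ x),
        a = Over.homMk (pullback.lift v X.hom hv) (pullback.lift_snd _ _ _) := by
      intro a
      have hw : a.left ≫ pullback.snd H.hom x = X.hom := Over.w a
      refine ⟨a.left ≫ pullback.fst H.hom x, by rw [Category.assoc, pullback.condition, ← hw, Category.assoc], ?_⟩
      ext1
      apply pullback.hom_ext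
      · exact (pullback.lift_fst _ _ _).symm
      · exact hw.trans (pullback.lift_snd _ _ _).symm
    obtain ⟨v, hv, rfl⟩ := ea a
    obtain ⟨v', hv', rfl⟩ := ea b
    rw [mul_lift, e, e, e, mul_lift]
    ext1
    change pullback.lift _ _ _ = pullback.lift _ _ _
    congr 1
    exact h X.hom v v' hv hv'

lemma app_mul (α : Red.bc x H ⟶ Red.bc y H') [h : IsMonHom α] (g : W ⟶ T) (v v' : W ⟶ H.left)
    (hv : v ≫ H.hom = g ≫ x) (hv' : v' ≫ H.hom = g ≫ x) :
      app α g (mulPt (g ≫ x) v v' hv hv') (mulPt_hom _ _ _ _ _) =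
        mulPt (g ≫ y) (app α g v hv) (app α g v' hv') (app_hom _ _ _ _) (app_hom _ _ _ _) :=
  (isMonHom_iff α).1 h g v v' hv hv'

instance isMonHom_res (α : Red.bc x H ⟶ Red.bc y H') [IsMonHom α] (k : W ⟶ T) : IsMonHom (res α k) := by
  rw [isMonHom_iff]
  intro W' g v v' hv hv'
  rw [app_res]
  refine Eq.trans ?_ ((app_mul α (g ≫ k) v v' (by rw [hv, Category.assoc]) (by rw [hv', Category.assoc])).trans ?_)
  · exact app_congr α rfl (mulPt_congr (Category.assoc _ _ _).symm rfl rfl _ _) _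
  · exact mulPt_congr (Category.assoc _ _ _) (app_res _ _ _ _ _).symm (app_res _ _ _ _ _).symm _ _

end hom

end Groth.Agent.Red.K929.App
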