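import Groth.Agent.S3972
import Groth.Agent.Grpsch.KerMul
import Groth.Agent.Sga3B.RedBcAny636
import Groth.Agent.Sga3B.BcPts
import Groth.Agent.Sga3B.Pts

/-!
# Homomorphisms with central kernel out of semisimple group schemes

* `hom_comm_eq_one`: homomorphisms from a semisimple group scheme to a commutative group scheme are trivial;
* `eq_of_comp_eq`: lifts of a homomorphism through a homomorphism with central kernel are unique;
* `cent_of_comp`: for `c` with central kernel, a point whose image commutes with the image of `c` is central;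
* `CenKer.comp`: composites of homomorphisms with central kernels.
-/

set_option autoImplicit false
open CategoryTheory MonoidalCategory CartesianMonoidalCategory MonObj GrpObj AlgebraicGeometry
universe u

namespace Groth.Agent.Red.K929.CenKer

open Groth.Agent.Sga3B BcPts

variable {S : Scheme.{u}}

/-- The kernel of `f` is central. -/
def CK {H G : Over S} [GrpObj H] [GrpObj G] (f : H ⟶ G) : Prop :=
  ∀ (T : Over S) (k y : T ⟶ H), k ≫ f = 1 → k * y = y * k

/-- The point `z` is central. -/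
def Cent {G : Over S} [GrpObj G] {T : Over S} (z : T ⟶ G) : Prop :=
  ∀ (T' : Over S) (x : T' ⟶ T) (y : T' ⟶ G), (x ≫ z) * y = y * (x ≫ z)

/-- Homomorphisms from a semisimple group to a commutative group are trivial. -/
theorem hom_comm_eq_one {G A : Over S} [GrpObj G] [GrpObj A] (hG : Red.IsSemisimple G)
    (f : G ⟶ A) [IsMonHom f] (hA : ∀ (X : Over S) (a b : X ⟶ A), a * b = b * a) : f = 1 := by
  obtain ⟨C, _, f₀, D, _, d, h1, -, -, -, h2, -, -, -, h3, -, h4⟩ :=
    Groth.Agent.S3972.result G ⟨hG.1, hG.2.1, fun s => (hG.2.2 s).1⟩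
  have := h4 hG
  have h5 := h3 A f hA
  rw [← cancel_epi d, h5, MonObj.comp_one]

/-- A homomorphism from a semisimple group into the kernel of a homomorphism with central kernel is trivial. -/
theorem hom_ker_eq_one {G H L : Over S} [GrpObj G] [GrpObj H] [GrpObj L] (hG : Red.IsSemisimple G)
    (c : H ⟶ L) [IsMonHom c] (hc : CK c) (δ : G ⟶ H) [IsMonHom δ] (h : δ ≫ c = 1) : δ = 1 := by
  obtain ⟨K, _, i, _, hK⟩ := Groth.Agent.Grpsch.KerMul.exists_kernel c
  have hm : Mono i := ⟨fun a b hab => hK.hom_ext hab (toUnit_unique _ _)⟩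
  have hi : ∀ {X : Over S} (a : X ⟶ K), (a ≫ i) ≫ c = 1 := fun {X} a => by
    rw [Category.assoc, hK.w, MonObj.one_eq_one, MonObj.comp_one, MonObj.comp_one]
  have hcomm : ∀ (X : Over S) (a b : X ⟶ K), a * b = b * a := fun X a b => by
    rw [← cancel_mono i, MonObj.mul_comp, MonObj.mul_comp]
    exact hc X _ _ (hi a)
  have h' : δ ≫ c = toUnit G ≫ η[L] := by rw [h, MonObj.one_eq_one, MonObj.comp_one]
  obtain ⟨δ', e⟩ : ∃ δ' : G ⟶ K, δ' ≫ i = δ := ⟨hK.lift δ (toUnit G) h', hK.lift_fst _ _ _⟩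
  have hδ' : IsMonHom δ' := Pts.isMonHom_of_points _ fun X x y => by
    rw [← cancel_mono i, MonObj.mul_comp (x ≫ δ') (y ≫ δ') i, Category.assoc, Category.assoc,
      Category.assoc, e, MonObj.mul_comp]
  rw [← e, hom_comm_eq_one hG δ' hcomm, MonObj.one_comp]

/-- Lifts through a homomorphism with central kernel are unique. -/
theorem eq_of_comp_eq {G H L : Over S} [GrpObj G] [GrpObj H] [GrpObj L] (hG : Red.IsSemisimple G)
    (c : H ⟶ L) [IsMonHom c] (hc : CK c) (α β : G ⟶ H) [IsMonHom α] [IsMonHom β]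
    (h : α ≫ c = β ≫ c) : α = β := by
  have hδ : (α * β⁻¹) ≫ c = 1 := by
    rw [MonObj.mul_comp, GrpObj.inv_comp, h, mul_inv_cancel]
  have : IsMonHom (α * β⁻¹) := Pts.isMonHom_of_points _ fun X x y => by
    have h1 : (y ≫ (α * β⁻¹)) ≫ c = 1 := by rw [Category.assoc, hδ, MonObj.comp_one]
    have h2 := hc X _ (x ≫ β)⁻¹ h1
    rw [MonObj.comp_mul, MonObj.comp_mul, MonObj.comp_mul, GrpObj.comp_inv, GrpObj.comp_inv,
      GrpObj.comp_inv, MonObj.mul_comp, MonObj.mul_comp]
    rw [MonObj.comp_mul, GrpObj.comp_inv] at h2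
    calc _ = (x ≫ α) * (((y ≫ α) * (y ≫ β)⁻¹) * (x ≫ β)⁻¹) := by group
      _ = _ := by rw [h2]; group
  have h3 := hom_ker_eq_one hG c hc _ hδ
  exact mul_inv_eq_one.mp h3

/-- Sections: a section whose image commutes with the image of `c` is central. -/
theorem cent_section {G L : Over S} [GrpObj G] [GrpObj L] (hG : Red.IsSemisimple G)
    (c : G ⟶ L) [IsMonHom c] (hc : CK c) (z : 𝟙_ (Over S) ⟶ G)
    (h : ∀ (X : Over S) (y : X ⟶ G), ((toUnit X ≫ z) ≫ c) * (y ≫ c) = (y ≫ c) * ((toUnit X ≫ z) ≫ c))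
    (X : Over S) (y : X ⟶ G) : (toUnit X ≫ z) * y = y * (toUnit X ≫ z) := by
  let δ : G ⟶ G := (toUnit G ≫ z) * 𝟙 G * (toUnit G ≫ z)⁻¹ * (𝟙 G)⁻¹
  have hδ : ∀ {X : Over S} (y : X ⟶ G), y ≫ δ = (toUnit X ≫ z) * y * (toUnit X ≫ z)⁻¹ * y⁻¹ := fun {X} y => by
    have e : y ≫ toUnit G ≫ z = toUnit X ≫ z := by
      rw [← Category.assoc, toUnit_unique (y ≫ toUnit G) (toUnit X)]
    rw [MonObj.comp_mul, MonObj.comp_mul, MonObj.comp_mul, GrpObj.comp_inv, GrpObj.comp_inv, e,
      Category.comp_id]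
  have hδc : ∀ {X : Over S} (y : X ⟶ G), (y ≫ δ) ≫ c = 1 := fun {X} y => by
    rw [hδ, MonObj.mul_comp, MonObj.mul_comp, MonObj.mul_comp, GrpObj.inv_comp, GrpObj.inv_comp, h]
    group
  have : IsMonHom δ := Pts.isMonHom_of_points _ fun X x y => by
    have h2 := hc X _ (x⁻¹) (hδc y)
    rw [hδ] at h2
    rw [hδ, hδ, hδ]
    calc _ = (toUnit X ≫ z) * x * (toUnit X ≫ z)⁻¹ *
        (((toUnit X ≫ z) * y * (toUnit X ≫ z)⁻¹ * y⁻¹) * x⁻¹) := by group
      _ = _ := by rw [h2]; group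
  have h1 : δ ≫ c = 1 := by
    have := hδc (𝟙 G)
    rwa [Category.id_comp] at this
  have h3 := hom_ker_eq_one hG c hc δ h1
  have h4 := hδ y
  rw [h3, MonObj.comp_one] at h4
  have h5 : (toUnit X ≫ z) * y * (toUnit X ≫ z)⁻¹ = y := by
    rw [← mul_inv_eq_one, ← h4]
  exact mul_inv_eq_iff_eq_mul.mp h5

section BaseChange

variable {S' : Scheme.{u}} (f : S' ⟶ S)

theorem CK.bc {H G : Over S} [GrpObj H] [GrpObj G] {c : H ⟶ G} (hc : CK c) :
    CK ((Over.pullback f).map c) := by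
  intro T k y hk
  obtain ⟨k, rfl⟩ := (bcEquiv f T H).surjective k
  obtain ⟨y, rfl⟩ := (bcEquiv f T H).surjective y
  have hk' : bcEquiv f T H k ≫ (Over.pullback f).map c = 1 := hk
  rw [← bcEquiv_comp, ← bcEquiv_one f] at hk'
  have h1 := hc _ k y ((bcEquiv f T G).injective hk')
  rw [← bcEquiv_mul, ← bcEquiv_mul, h1]

end BaseChange

/-- For `c` with central kernel, `G` semisimple: a point of `G` whose image commutes with the image of `c` is
central. -/
theorem cent_of_comp {G L : Over S} [GrpObj G] [GrpObj L] (hG : Red.IsSemisimple G)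
    (c : G ⟶ L) [IsMonHom c] (hc : CK c) {T : Over S} (z : T ⟶ G)
    (h : ∀ (T' : Over S) (x : T' ⟶ T) (y : T' ⟶ G), ((x ≫ z) ≫ c) * (y ≫ c) = (y ≫ c) * ((x ≫ z) ≫ c)) :
    Cent z := by
  intro T' x y
  -- base change to `T'`
  let f : T'.left ⟶ S := T'.hom
  have hG' : Red.IsSemisimple (Red.bc f G) := RedBcAny636.isSemisimple_bc f hG
  let z' : (Over.map f).obj (𝟙_ (Over T'.left)) ⟶ G := Over.homMk (x ≫ z).left (by
    have := Over.w (x ≫ z)
    simpa [f] using this)
  let y' : (Over.map f).obj (𝟙_ (Over T'.left)) ⟶ G := Over.homMk y.left (by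
    have := Over.w y
    simpa [f] using this)
  have key := cent_section hG' ((Over.pullback f).map c) (hc.bc f) (bcEquiv f _ G z') (fun X w => by
    obtain ⟨w, rfl⟩ := (bcEquiv f X G).surjective w
    have e : toUnit X ≫ bcEquiv f (𝟙_ (Over T'.left)) G z' =
      bcEquiv f X G ((Over.map f).map (toUnit X) ≫ z') := (comp_bcEquiv f _ _).symm
    have h0 := h ((Over.map f).obj X) (Over.homMk X.hom (by simp [f]) ≫ x) w
    have e2 : (Over.homMk X.hom (by simp [f]) ≫ x) ≫ z =
        (Over.map f).map (toUnit X) ≫ z' := by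
      ext1
      simp [z']
    rw [e2] at h0
    rw [e]
    have h1 := congrArg (bcEquiv f X L) h0
    rw [bcEquiv_mul, bcEquiv_mul, bcEquiv_comp f (_ ≫ z') c, bcEquiv_comp f w c] at h1
    exact h1) (𝟙_ _) (bcEquiv f _ G y')
  have e3 : toUnit (𝟙_ (Over T'.left)) ≫ bcEquiv f (𝟙_ (Over T'.left)) G z' = bcEquiv f _ G z' := by
    rw [toUnit_unique (toUnit (𝟙_ (Over T'.left))) (𝟙 _), Category.id_comp]
  have key : bcEquiv f _ G z' * bcEquiv f _ G y' = bcEquiv f _ G y' * bcEquiv f _ G z' := by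
    rw [← e3]
    exact key
  rw [← bcEquiv_mul, ← bcEquiv_mul] at key
  have k2 := (bcEquiv f _ G).injective key
  -- transport back along `(Over.map f).obj (𝟙_) ≅ T'`
  let e : T' ⟶ (Over.map f).obj (𝟙_ (Over T'.left)) := Over.homMk (𝟙 _) (by simp [f])
  have k3 := congrArg (fun w => e ≫ w) k2
  beta_reduce at k3
  rw [MonObj.comp_mul, MonObj.comp_mul] at k3
  have ez : e ≫ z' = x ≫ z := by ext1; simp [e, z']
  have ey : e ≫ y' = y := by ext1; simp [e, y']
  rwa [ez, ey] at k3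

/-- Composites. -/
theorem CK.comp {H G L : Over S} [GrpObj H] [GrpObj G] [GrpObj L] (hH : Red.IsSemisimple H)
    {c : H ⟶ G} [IsMonHom c] (hc : CK c) {d : G ⟶ L} [IsMonHom d] (hd : CK d) : CK (c ≫ d) := by
  intro T k y hk
  have h1 := cent_of_comp hH c hc k (fun T' x w => by
    refine hd T' _ _ ?_
    rw [Category.assoc, Category.assoc, hk, MonObj.comp_one])
  have h2 := h1 T (𝟙 T) y
  rwa [Category.id_comp] at h2

end Groth.Agent.Red.K929.CenKer
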