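import Groth.Agent.Red.K929.AdPin
import Groth.Agent.Sga3B.IsomLocal2

/-!
# Isomorphisms of adjoint groups lift to simply connected groups
-/

set_option autoImplicit false
open CategoryTheory MonoidalCategory CartesianMonoidalCategory MonObj GrpObj AlgebraicGeometry Limits
universe u

namespace Groth.Agent.Red.K929.Comp

open Groth.Agent.Sga3B Groth.Agent.Sga3B.DSPts Groth.Agent.Sga3B.IsomCore Groth.Agent.Sga3B.IsomLocal
  CenKer AdQ ScDatum Cover AdPin

variable {S : Scheme.{u}}

section datum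

variable {H H' A A' : Over S} [GrpObj H] [GrpObj H'] [GrpObj A] [GrpObj A'] {E : Red.Pinning H}
  {E' : Red.Pinning H'} {D : Red.Pinning A} {D' : Red.Pinning A'} {p : H ⟶ A} {p' : H' ⟶ A'}
  {σ : D.M →+ E.M} {σ' : D'.M →+ E'.M} {i : E.idx ≃ D.idx} {i' : E'.idx ≃ D'.idx}

/-- lifting an equivalence of root data. -/
theorem exists_lift_equiv (h : AdData E D p σ i) (h' : AdData E' D' p' σ' i') (hs : Spans E.P) (hs' : Spans E'.P)
    (hc : IsSC E.P) (hc' : IsSC E'.P) (e : BaseEquiv D D') :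
    ∃ ê : BaseEquiv E E', (∀ a, i (ê.1.indexEquiv a) = e.1.indexEquiv (i' a)) ∧
      (∀ m, ê.1.weightMap (σ' m) = σ (e.1.weightMap m)) := by
  have hr : ∀ a, e.1.weightMap (D'.P.root a) = D.P.root (e.1.indexEquiv a) := fun a =>
    RootPairing.Hom.root_weightMap_apply _ _ _ e.1.toHom
  have hwi : Function.Injective e.1.weightMap := e.1.bijective_weightMap.1
  have hp := pairing_eq_of_root D.pairing_eq D'.pairing_eq e.1.weightMap.toAddMonoidHom hwi
    e.1.indexEquiv.symm (fun a => (hr _).trans (by rw [Equiv.apply_symm_apply]))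
  have hp1 := pairing_eq_of_root E.pairing_eq D.pairing_eq σ h.inj i h.root
  have hp2 := pairing_eq_of_root E'.pairing_eq D'.pairing_eq σ' h'.inj i' h'.root
  obtain ⟨ê, hê⟩ := exists_equiv_of_pairing E.pairing_eq E'.pairing_eq hs hs' hc hc'
    (i'.trans (e.1.indexEquiv.trans i.symm)) (fun a b => by
      rw [← hp1, ← hp2]
      simp only [Equiv.trans_apply, Equiv.apply_symm_apply]
      rw [← hp, Equiv.symm_apply_apply, Equiv.symm_apply_apply])
  have hê' : ∀ a, i (ê.indexEquiv a) = e.1.indexEquiv (i' a) := fun a => by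
    rw [hê, Equiv.trans_apply, Equiv.trans_apply, Equiv.apply_symm_apply]
  have hr' : ∀ a, ê.weightMap (E'.P.root a) = E.P.root (ê.indexEquiv a) := fun a =>
    RootPairing.Hom.root_weightMap_apply _ _ _ ê.toHom
  refine ⟨⟨ê, fun a => ?_⟩, hê', fun m => ?_⟩
  · rw [h'.mem, h.mem, hê']
    exact e.2 (i' a)
  · have h1 : ê.weightMap.toAddMonoidHom.comp σ' = σ.comp e.1.weightMap.toAddMonoidHom := by
      refine AddMonoidHom.ext fun m => ?_
      refine AddSubgroup.closure_induction
        (p := fun m _ => (ê.weightMap.toAddMonoidHom.comp σ') m = (σ.comp e.1.weightMap.toAddMonoidHom) m)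
        ?_ ?_ ?_ ?_ (h'.gen m)
      · rintro _ ⟨c, rfl⟩
        obtain ⟨a, rfl⟩ := i'.surjective c
        change ê.weightMap (σ' (D'.P.root (i' a))) = σ (e.1.weightMap (D'.P.root (i' a)))
        rw [h'.root, hr', hr, ← hê', h.root]
      · rw [_root_.map_zero, _root_.map_zero]
      · intro x y _ _ hx hy
        rw [_root_.map_add, _root_.map_add, hx, hy]
      · intro x _ hx
        rw [_root_.map_neg, _root_.map_neg, hx]
    exact DFunLike.congr_fun h1 m

/-- **Isomorphisms of pinned adjoint groups lift to simply connected groups.** -/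
theorem exists_fe_lift [Nonempty S] (h : AdData E D p σ i) (h' : AdData E' D' p' σ' i') (hs : Spans E.P)
    (hs' : Spans E'.P) (hc : IsSC E.P) (hc' : IsSC E'.P) (e : BaseEquiv D D') :
    ∃ (f : Grp.mk A ≅ Grp.mk A') (ε : Grp.mk H ≅ Grp.mk H'), FeProp D D' e f ∧
      p ≫ f.hom.hom.hom = ε.hom.hom.hom ≫ p' := by
  obtain ⟨ê, hê1, hê2⟩ := exists_lift_equiv h h' hs hs' hc hc' e
  obtain ⟨ε, hε1, hε2⟩ := IsomLocal2.exists_fe E E' ê
  obtain ⟨f, hf⟩ := h.adQ.exists_iso (h'.adQ.iso_comp ε)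
  refine ⟨f, ε, ⟨fun X t => ?_, fun a' ha' => ?_⟩, hf⟩
  · have hfs := K7.DSProp.flat_surjective_DSmap S σ h.inj
    have := hfs.1
    have := hfs.2
    obtain ⟨X', c, t', -, -, _, ht, -⟩ := exists_lift (Red.DSmap S σ) t
    rw [← cancel_epi c]
    have e1 : Red.DSmap S ê.1.weightMap.toAddMonoidHom ≫ Red.DSmap S σ' =
        Red.DSmap S σ ≫ Red.DSmap S e.1.weightMap.toAddMonoidHom := by
      rw [BorSpan613.DSmap_comp_DSmap, BorSpan613.DSmap_comp_DSmap]
      congr 1
      exact AddMonoidHom.ext hê2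
    rw [← Category.assoc, comp_dT, ← ht, ← h.tor, Category.assoc, hf, ← Category.assoc, hε1, h'.tor, comp_dT,
      Category.assoc, e1, ← Category.assoc t', ht, Category.assoc]
  · obtain ⟨b', rfl⟩ := i'.surjective a'
    rw [← hê1, ← h.u, Category.assoc, hf, ← Category.assoc, hε2 b' ((h'.mem b').2 ha'), h'.u]

end datum

end Groth.Agent.Red.K929.Comp
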