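import Groth.Agent.Sga3B.IsomComb
import Groth.Agent.Sga3B.BorSpan613
import Mathlib.LinearAlgebra.RootSystem.Finite.Nondegenerate
import Mathlib.LinearAlgebra.RootSystem.Reduced
import Mathlib.LinearAlgebra.Dimension.Torsion.Finite

/-!
# The simply connected root datum

For a root pairing `P` on `M`, `Dual ℤ M` whose roots span rationally:
* `sc`: the root pairing on `Dual ℤ C`, `C` with `C` the coroot lattice; `emb : M → Dual ℤ C`;
* `scBase`: a base of `P` is a base of `sc`;
* `pairing_eq_of_root`: the pairing is determined by the roots;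
* `equivOfRoots`: an isomorphism of lattices respecting the roots is an isomorphism of root data;
* `exists_equiv_of_pairing`: root data whose coroots span the dual lattices are isomorphic if the pairings agree.
-/

set_option autoImplicit false
open Module Set Function

namespace Groth.Agent.Red.K929.ScDatum

open Groth.Agent.Sga3B

section defs

variable {ι M N : Type*} [AddCommGroup M] [AddCommGroup N]

/-- The roots span `M` rationally. -/
def Spans (P : RootPairing ι ℤ M N) : Prop :=
  ∀ m : M, ∃ n : ℤ, n ≠ 0 ∧ n • m ∈ Submodule.span ℤ (range P.root)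

/-- The coroots span the dual lattice. -/
def IsSC (P : RootPairing ι ℤ M N) : Prop :=
  Submodule.span ℤ (range P.coroot) = ⊤

variable {ι' M' N' : Type*} [AddCommGroup M'] [AddCommGroup N'] {P : RootPairing ι ℤ M N}
  {Q : RootPairing ι' ℤ M' N'}

theorem Spans.of_map (hQ : Spans Q) (θ : M ≃+ M') (e : ι ≃ ι') (h : ∀ a, θ (P.root a) = Q.root (e a)) :
    Spans P := by
  intro m
  obtain ⟨n, hn, hm⟩ := hQ (θ m)
  refine ⟨n, hn, ?_⟩
  have h1 : (Submodule.span ℤ (range P.root)).map θ.toIntLinearEquiv.toLinearMap =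
      Submodule.span ℤ (range Q.root) := by
    rw [Submodule.map_span]
    congr 1
    ext x
    constructor
    · rintro ⟨_, ⟨a, rfl⟩, rfl⟩
      exact ⟨e a, (h a).symm⟩
    · rintro ⟨a, rfl⟩
      exact ⟨_, ⟨e.symm a, rfl⟩, (h _).trans (by rw [Equiv.apply_symm_apply])⟩
  rw [← h1] at hm
  obtain ⟨x, hx, hxm⟩ := hm
  have h2 : x = n • m := θ.injective (by
    rw [map_zsmul]
    exact hxm)
  rwa [← h2]

theorem Spans.of_equiv (hQ : Spans Q) (E : RootPairing.Equiv P Q) : Spans P :=
  hQ.of_map (RootPairing.Equiv.weightEquiv P Q E).toAddEquiv E.indexEquiv fun a =>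
    RootPairing.Hom.root_weightMap_apply _ _ _ E.toHom

theorem IsSC.of_equiv (hQ : IsSC Q) (E : RootPairing.Equiv P Q) : IsSC P := by
  have h1 : range P.coroot = (RootPairing.Equiv.coweightEquiv P Q E) '' (range Q.coroot) := by
    ext x
    constructor
    · rintro ⟨a, rfl⟩
      exact ⟨_, ⟨_, rfl⟩, (IsomComb.coroot_eq E a).symm⟩
    · rintro ⟨_, ⟨b, rfl⟩, rfl⟩
      refine ⟨E.indexEquiv.symm b, ?_⟩
      rw [IsomComb.coroot_eq E, Equiv.apply_symm_apply]
  have h2 : (Submodule.span ℤ (range Q.coroot)).map (RootPairing.Equiv.coweightEquiv P Q E).toLinearMap =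
      Submodule.span ℤ (range P.coroot) := by
    rw [Submodule.map_span, h1]
    rfl
  rw [IsSC, ← h2, hQ, Submodule.map_top, LinearEquiv.range]

end defs

section basic

variable {ι M : Type*} [AddCommGroup M] {P : RootPairing ι ℤ M (Module.Dual ℤ M)}

lemma coroot_apply (hP : P.toLinearMap = Module.Dual.eval ℤ M) (a : ι) (m : M) :
    P.coroot a m = P.toLinearMap m (P.coroot a) := by
  rw [hP]
  rfl

lemma coroot_root (hP : P.toLinearMap = Module.Dual.eval ℤ M) (a b : ι) :
    P.coroot a (P.root b) = P.pairing b a :=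
  coroot_apply hP a _

variable [Module.Free ℤ M]

/-- additive functions agreeing on the roots agree -/
lemma eq_of_roots (hs : Spans P) {f g : M →+ ℤ} (h : ∀ a, f (P.root a) = g (P.root a)) : f = g := by
  ext m
  obtain ⟨n, hn, hm⟩ := hs m
  have h1 : ∀ x ∈ Submodule.span ℤ (range P.root), f x = g x := by
    intro x hx
    refine Submodule.span_induction (p := fun x _ => f x = g x) ?_ (by simp) ?_ ?_ hx
    · rintro _ ⟨a, rfl⟩
      exact h a
    · intro x y _ _ hx hy
      rw [map_add, map_add, hx, hy]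
    · intro c x _ hx
      rw [map_zsmul, map_zsmul, hx]
  have h2 := h1 _ hm
  rw [map_zsmul, map_zsmul, smul_eq_mul, smul_eq_mul] at h2
  exact mul_left_cancel₀ hn h2

/-- the coroots separate the elements of `M` -/
theorem sep [Finite ι] (hP : P.toLinearMap = Module.Dual.eval ℤ M) (hs : Spans P) {m : M}
    (h : ∀ a, P.coroot a m = 0) : m = 0 := by
  have := Fintype.ofFinite ι
  obtain ⟨n, hn, hm⟩ := hs m
  have h1 : P.RootForm (n • m) (n • m) = 0 := by
    rw [P.rootForm_apply_apply]
    refine Finset.sum_eq_zero fun i _ => ?_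
    have h2 : P.coroot' i (n • m) = 0 := by
      have h3 : P.coroot' i (n • m) = P.toLinearMap (n • m) (P.coroot i) := rfl
      rw [h3, ← coroot_apply hP, map_zsmul, h, smul_zero]
    rw [h2, mul_zero]
  have h2 := P.eq_zero_of_mem_rootSpan_of_rootForm_self_eq_zero hm h1
  exact (smul_eq_zero.mp h2).resolve_left hn

end basic

section pairing

variable {ι ι₁ M M₁ : Type*} [Finite ι₁] [AddCommGroup M] [AddCommGroup M₁] [Module.Free ℤ M₁]
  {P : RootPairing ι ℤ M (Module.Dual ℤ M)} {P₁ : RootPairing ι₁ ℤ M₁ (Module.Dual ℤ M₁)}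

/-- The pairing of a root datum is determined by the roots. -/
theorem pairing_eq_of_root (hP : P.toLinearMap = Module.Dual.eval ℤ M)
    (hP₁ : P₁.toLinearMap = Module.Dual.eval ℤ M₁) (σ : M₁ →+ M) (hσ : Injective σ) (i : ι ≃ ι₁)
    (h : ∀ a, σ (P₁.root (i a)) = P.root a) (a b : ι) : P₁.pairing (i a) (i b) = P.pairing a b := by
  have h1 := Dual.eq_of_preReflection_mapsTo' (R := ℤ) (x := P₁.root (i b)) (Φ := range P₁.root)
    (finite_range _) (Submodule.subset_span (mem_range_self _))
    (f := (P.coroot b).comp σ.toIntLinearMap) (g := P₁.coroot (i b)) ?_ ?_ ?_ ?_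
  · have h2 := LinearMap.congr_fun h1 ⟨P₁.root (i a), Submodule.subset_span (mem_range_self _)⟩
    simp only [LinearMap.dualMap_apply, Submodule.subtype_apply, LinearMap.comp_apply,
      AddMonoidHom.coe_toIntLinearMap] at h2
    rw [h, coroot_root hP, coroot_root hP₁] at h2
    exact h2.symm
  · simp only [LinearMap.comp_apply, AddMonoidHom.coe_toIntLinearMap]
    rw [h, coroot_root hP, P.pairing_same]
  · rintro _ ⟨c, rfl⟩
    obtain ⟨c, rfl⟩ := i.surjective c
    refine ⟨i (P.reflectionPerm b c), hσ ?_⟩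
    rw [h, preReflection_apply]
    simp only [LinearMap.comp_apply, AddMonoidHom.coe_toIntLinearMap]
    rw [map_sub, map_zsmul, h, h, ← P.reflectionPerm_root, ← coroot_apply hP]
  · rw [coroot_root hP₁, P₁.pairing_same]
  · rintro _ ⟨c, rfl⟩
    refine ⟨P₁.reflectionPerm (i b) c, ?_⟩
    rw [preReflection_apply, ← P₁.reflectionPerm_root, ← coroot_apply hP₁]

end pairing

section equiv

variable {ι ι' M M' : Type*} [Finite ι] [Finite ι'] [AddCommGroup M] [AddCommGroup M']
  [Module.Free ℤ M] [Module.Finite ℤ M] [Module.Free ℤ M'] [Module.Finite ℤ M']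
  {P : RootPairing ι ℤ M (Module.Dual ℤ M)} {Q : RootPairing ι' ℤ M' (Module.Dual ℤ M')}

/-- An isomorphism of lattices respecting the roots is an isomorphism of root data. -/
theorem exists_equiv_of_roots (hP : P.toLinearMap = Module.Dual.eval ℤ M)
    (hQ : Q.toLinearMap = Module.Dual.eval ℤ M') (hs : Spans Q)
    (θ : M' ≃+ M) (e : ι' ≃ ι) (hr : ∀ i, θ (Q.root i) = P.root (e i)) :
    ∃ E : RootPairing.Equiv Q P, (∀ m, E.weightMap m = θ m) ∧ ∀ i, E.indexEquiv i = e i := by
  have hp : ∀ a b, Q.pairing a b = P.pairing (e a) (e b) := fun a b => by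
    have := pairing_eq_of_root hP hQ θ.toAddMonoidHom θ.injective e.symm (fun c => by
      obtain ⟨c, rfl⟩ := e.surjective c
      rw [Equiv.symm_apply_apply]
      exact hr c) (e a) (e b)
    rwa [Equiv.symm_apply_apply, Equiv.symm_apply_apply] at this
  refine ⟨IsomComb.mkEquiv hP hQ θ.toIntLinearEquiv e hr fun i m => ?_, fun m => rfl, fun i => rfl⟩
  have h1 : ((P.coroot (e i)).toAddMonoidHom.comp θ.toAddMonoidHom) = (Q.coroot i).toAddMonoidHom :=
    eq_of_roots hs fun a => by
      change P.coroot (e i) (θ (Q.root a)) = Q.coroot i (Q.root a)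
      rw [hr, coroot_root hP, coroot_root hQ, hp]
  exact DFunLike.congr_fun h1 m

/-- Two "simply connected" root data with the same pairings are isomorphic. -/
theorem exists_equiv_of_pairing (hP : P.toLinearMap = Module.Dual.eval ℤ M)
    (hQ : Q.toLinearMap = Module.Dual.eval ℤ M') (hsP : Spans P) (hsQ : Spans Q)
    (hcP : IsSC P) (hcQ : IsSC Q) (e : ι' ≃ ι) (hp : ∀ a b, Q.pairing a b = P.pairing (e a) (e b)) :
    ∃ E : RootPairing.Equiv Q P, ∀ i, E.indexEquiv i = e i := by
  -- the maps to functions on the roots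
  let κ : Module.Dual ℤ M →ₗ[ℤ] (ι' → ℤ) := LinearMap.pi fun a => Module.Dual.eval ℤ M (P.root (e a))
  let κ' : Module.Dual ℤ M' →ₗ[ℤ] (ι' → ℤ) := LinearMap.pi fun a => Module.Dual.eval ℤ M' (Q.root a)
  have hκ : ∀ f a, κ f a = f (P.root (e a)) := fun f a => rfl
  have hκ' : ∀ f a, κ' f a = f (Q.root a) := fun f a => rfl
  have hi : Injective κ := fun f g hfg => by
    have := eq_of_roots hsP (f := f.toAddMonoidHom) (g := g.toAddMonoidHom) fun a => by
      obtain ⟨a, rfl⟩ := e.surjective a
      exact congrFun hfg a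
    exact LinearMap.ext fun m => DFunLike.congr_fun this m
  have hi' : Injective κ' := fun f g hfg => by
    have := eq_of_roots hsQ (f := f.toAddMonoidHom) (g := g.toAddMonoidHom) fun a => congrFun hfg a
    exact LinearMap.ext fun m => DFunLike.congr_fun this m
  have hgen : ∀ b, κ (P.coroot (e b)) = κ' (Q.coroot b) := fun b => by
    funext a
    rw [hκ, hκ', coroot_root hP, coroot_root hQ, hp]
  have hrange : LinearMap.range κ = LinearMap.range κ' := by
    rw [← Submodule.map_top κ, ← Submodule.map_top κ', ← hcP, ← hcQ, Submodule.map_span,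
      Submodule.map_span]
    congr 1
    ext x
    constructor
    · rintro ⟨_, ⟨b, rfl⟩, rfl⟩
      obtain ⟨b, rfl⟩ := e.surjective b
      exact ⟨_, ⟨b, rfl⟩, (hgen b).symm⟩
    · rintro ⟨_, ⟨b, rfl⟩, rfl⟩
      exact ⟨_, ⟨e b, rfl⟩, hgen b⟩
  let φ : Module.Dual ℤ M ≃ₗ[ℤ] Module.Dual ℤ M' :=
    (LinearEquiv.ofInjective κ hi).trans
      ((LinearEquiv.ofEq _ _ hrange).trans (LinearEquiv.ofInjective κ' hi').symm)
  have hφ : ∀ f, κ' (φ f) = κ f := fun f => by
    have h1 : (LinearEquiv.ofInjective κ' hi' (φ f) : ι' → ℤ) = κ f := by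
      simp only [φ, LinearEquiv.trans_apply, LinearEquiv.apply_symm_apply]
      rfl
    exact h1
  have hφc : ∀ b, φ (P.coroot (e b)) = Q.coroot b := fun b => hi' (by rw [hφ, hgen])
  let θ : M' ≃ₗ[ℤ] M := (Module.evalEquiv ℤ M').trans (φ.dualMap.trans (Module.evalEquiv ℤ M).symm)
  have hθ : ∀ (f : Module.Dual ℤ M) (m : M'), f (θ m) = φ f m := fun f m => by
    have h1 : Module.evalEquiv ℤ M (θ m) = φ.dualMap (Module.evalEquiv ℤ M' m) := by
      simp only [θ, LinearEquiv.trans_apply, LinearEquiv.apply_symm_apply]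
    exact LinearMap.congr_fun h1 f
  refine ⟨IsomComb.mkEquiv hP hQ θ e (fun i => ?_) fun i m => ?_, fun i => rfl⟩
  · apply (Module.evalEquiv ℤ M).injective
    ext f
    change f (θ (Q.root i)) = f (P.root (e i))
    rw [hθ]
    exact congrFun (hφ f) i
  · rw [hθ, hφc]

end equiv

section sc

variable {ι M : Type*} [Finite ι] [AddCommGroup M] [Module.Free ℤ M] [Module.Finite ℤ M]
  (P : RootPairing ι ℤ M (Module.Dual ℤ M))

/-- The coroot lattice. -/
abbrev CL : Submodule ℤ (Module.Dual ℤ M) := Submodule.span ℤ (range P.coroot)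

/-- The map from `M` to the dual of the coroot lattice. -/
def emb : M →ₗ[ℤ] Module.Dual ℤ (CL P) := (CL P).subtype.dualMap ∘ₗ Module.Dual.eval ℤ M

lemma emb_apply (m : M) (c : CL P) : emb P m c = c.1 m := rfl

variable {P}

theorem emb_injective (hP : P.toLinearMap = Module.Dual.eval ℤ M) (hs : Spans P) : Injective (emb P) := by
  rw [← LinearMap.ker_eq_bot, LinearMap.ker_eq_bot']
  intro m hm
  exact sep hP hs fun a => LinearMap.congr_fun hm ⟨P.coroot a, Submodule.subset_span (mem_range_self a)⟩

/-- The simply connected root datum. -/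
def sc (hP : P.toLinearMap = Module.Dual.eval ℤ M) (hs : Spans P) :
    RootPairing ι ℤ (Module.Dual ℤ (CL P)) (CL P) where
  toLinearMap := LinearMap.id
  isPerfPair_toLinearMap := LinearMap.IsPerfPair.id
  root := ⟨fun a => emb P (P.root a), fun a b hab => P.root.injective (emb_injective hP hs hab)⟩
  coroot := ⟨fun a => ⟨P.coroot a, Submodule.subset_span (mem_range_self a)⟩, fun a b hab =>
    P.coroot.injective (congrArg Subtype.val hab)⟩
  root_coroot_two a := by
    change P.coroot a (P.root a) = 2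
    rw [coroot_root hP, P.pairing_same]
  reflectionPerm := P.reflectionPerm
  reflectionPerm_root a b := by
    change emb P (P.root b) - P.coroot a (P.root b) • emb P (P.root a) = emb P (P.root _)
    rw [← map_zsmul, ← map_sub, coroot_apply hP, P.reflectionPerm_root]
  reflectionPerm_coroot a b := by
    apply Subtype.ext
    change P.coroot b - P.coroot b (P.root a) • P.coroot a = P.coroot _
    rw [coroot_apply hP, P.reflectionPerm_coroot]

variable (hP : P.toLinearMap = Module.Dual.eval ℤ M) (hs : Spans P)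

@[simp] lemma sc_root (a : ι) : (sc hP hs).root a = emb P (P.root a) := rfl

@[simp] lemma sc_coroot_val (a : ι) : ((sc hP hs).coroot a).1 = P.coroot a := rfl

lemma sc_pairing (a b : ι) : (sc hP hs).pairing a b = P.pairing a b := coroot_root hP b a

theorem sc_isReduced [P.IsReduced] : (sc hP hs).IsReduced := by
  refine ⟨fun a b h => ?_⟩
  have h1 : ¬ LinearIndependent ℤ ![P.root a, P.root b] := fun h2 => h (by
    have h3 := h2.map' (emb P) (LinearMap.ker_eq_bot.mpr (emb_injective hP hs))
    have h4 : (emb P) ∘ ![P.root a, P.root b] = ![(sc hP hs).root a, (sc hP hs).root b] := by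
      funext i
      fin_cases i <;> rfl
    rwa [h4] at h3)
  rcases RootPairing.IsReduced.eq_or_eq_neg (P := P) a b h1 with h2 | h2
  · exact Or.inl (by rw [sc_root, sc_root, h2])
  · exact Or.inr (by rw [sc_root, sc_root, h2, map_neg])

theorem isSC_sc : IsSC (sc hP hs) := by
  rw [IsSC, eq_top_iff]
  rintro x -
  have h1 : (Submodule.span ℤ (range P.coroot)) =
      (Submodule.span ℤ (range (sc hP hs).coroot)).map (CL P).subtype := by
    rw [Submodule.map_span, ← range_comp]
    rfl
  have h2 : x.1 ∈ Submodule.span ℤ (range P.coroot) := x.2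
  rw [h1] at h2
  obtain ⟨y, hy, hxy⟩ := h2
  have : y = x := Subtype.ext hxy
  rwa [← this]

include hP hs in
theorem exists_smul_mem_coroot (f : Module.Dual ℤ M) : ∃ n : ℤ, n ≠ 0 ∧ n • f ∈ CL P := by
  by_contra hm
  push Not at hm
  obtain ⟨lam, hlam, hlam0⟩ := BorSpan613.exists_surjective_of_not_mem _ f hm
  have h1 : (Module.evalEquiv ℤ M).symm lam.toIntLinearMap = 0 := sep hP hs fun a => by
    have h2 : (Module.evalEquiv ℤ M ((Module.evalEquiv ℤ M).symm lam.toIntLinearMap)) (P.coroot a) =
        lam (P.coroot a) := by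
      rw [LinearEquiv.apply_symm_apply]
      rfl
    exact h2.trans (hlam0 _ (Submodule.subset_span (mem_range_self a)))
  have h3 : lam.toIntLinearMap = 0 := (Module.evalEquiv ℤ M).symm.injective (by rw [h1, map_zero])
  obtain ⟨x, hx⟩ := hlam 1
  have h4 : lam x = 0 := LinearMap.congr_fun h3 x
  omega

theorem finrank_quot {A : Type*} [AddCommGroup A] [Module.Finite ℤ A] (N : Submodule ℤ A)
    (h : ∀ a : A, ∃ n : ℤ, n ≠ 0 ∧ n • a ∈ N) : Module.finrank ℤ N = Module.finrank ℤ A := by
  have h1 : Module.finrank ℤ (A ⧸ N) = 0 := by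
    rw [Module.finrank_eq_zero_iff_isTorsion]
    intro x
    obtain ⟨a, rfl⟩ := Submodule.mkQ_surjective _ x
    obtain ⟨n, hn, hm⟩ := h a
    refine ⟨⟨n, mem_nonZeroDivisors_of_ne_zero hn⟩, ?_⟩
    change n • N.mkQ a = 0
    rw [← map_zsmul, Submodule.mkQ_apply, Submodule.Quotient.mk_eq_zero]
    exact hm
  rw [← Submodule.finrank_quotient_add_finrank N, h1, zero_add]

theorem of_finrank {A : Type*} [AddCommGroup A] [Module.Finite ℤ A] (N : Submodule ℤ A)
    (h : Module.finrank ℤ N = Module.finrank ℤ A) (a : A) : ∃ n : ℤ, n ≠ 0 ∧ n • a ∈ N := by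
  have h1 : Module.finrank ℤ (A ⧸ N) = 0 := by
    have := Submodule.finrank_quotient_add_finrank N
    omega
  rw [Module.finrank_eq_zero_iff_isTorsion] at h1
  obtain ⟨⟨n, hn⟩, hna⟩ := @h1 (N.mkQ a)
  refine ⟨n, nonZeroDivisors.ne_zero hn, ?_⟩
  change n • N.mkQ a = 0 at hna
  rw [← map_zsmul, Submodule.mkQ_apply, Submodule.Quotient.mk_eq_zero] at hna
  exact hna

include hP hs in
theorem exists_smul_mem_emb (l : Module.Dual ℤ (CL P)) : ∃ n : ℤ, n ≠ 0 ∧ ∃ m, emb P m = n • l := by
  obtain ⟨n, hn, m, hm⟩ := of_finrank (LinearMap.range (emb P)) (by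
    rw [LinearMap.finrank_range_of_inj (emb_injective hP hs), Module.finrank_linearMap_self,
      finrank_quot (CL P) (exists_smul_mem_coroot hP hs), Module.finrank_linearMap_self]) l
  exact ⟨n, hn, m, hm⟩

theorem spans_sc : Spans (sc hP hs) := by
  intro l
  obtain ⟨n, hn, m, hm⟩ := exists_smul_mem_emb hP hs l
  obtain ⟨k, hk, hkm⟩ := hs m
  refine ⟨k * n, mul_ne_zero hk hn, ?_⟩
  rw [mul_smul, ← hm, ← map_zsmul]
  have h1 : (Submodule.span ℤ (range P.root)).map (emb P) = Submodule.span ℤ (range (sc hP hs).root) := by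
    rw [Submodule.map_span, ← range_comp]
    rfl
  rw [← h1]
  exact ⟨_, hkm, rfl⟩

lemma map_closure {A B : Type*} [AddCommGroup A] [AddCommGroup B] (f : A →+ B) (s : Set A) {x : A}
    (h : x ∈ AddSubmonoid.closure s) : f x ∈ AddSubmonoid.closure (f '' s) := by
  rw [← AddMonoidHom.map_mclosure]
  exact ⟨x, h, rfl⟩

/-- A base of `P` as a base of the simply connected root datum. -/
def scBase (b : P.Base) : (sc hP hs).Base where
  support := b.support
  linearIndepOn_root := by
    have h := b.linearIndepOn_root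
    exact LinearIndependent.map' h (emb P) (LinearMap.ker_eq_bot.mpr (emb_injective hP hs))
  linearIndepOn_coroot := by
    have h := b.linearIndepOn_coroot
    exact LinearIndependent.of_comp (CL P).subtype h
  root_mem_or_neg_mem a := by
    have hi : (sc hP hs).root '' b.support = (emb P).toAddMonoidHom '' (P.root '' b.support) := by
      rw [image_image]
      rfl
    rw [hi]
    refine (b.root_mem_or_neg_mem a).imp (map_closure (emb P).toAddMonoidHom _) fun h => ?_
    have := map_closure (emb P).toAddMonoidHom _ h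
    rwa [map_neg] at this
  coroot_mem_or_neg_mem a := by
    have key : ∀ x : CL P, x.1 ∈ AddSubmonoid.closure (P.coroot '' b.support) →
        x ∈ AddSubmonoid.closure ((sc hP hs).coroot '' b.support) := by
      intro x hx
      have h1 : (AddSubmonoid.closure (P.coroot '' b.support)) =
          (AddSubmonoid.closure ((sc hP hs).coroot '' b.support)).map (CL P).subtype.toAddMonoidHom := by
        rw [AddMonoidHom.map_mclosure, image_image]
        rfl
      rw [h1] at hx
      obtain ⟨y, hy, hxy⟩ := hx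
      have : y = x := Subtype.ext hxy
      rwa [← this]
    exact (b.coroot_mem_or_neg_mem a).imp (key _) (key _)

@[simp] lemma scBase_support (b : P.Base) : (scBase hP hs b).support = b.support := rfl

end sc

end Groth.Agent.Red.K929.ScDatum
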