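import Groth.Agent.Red.K929.AdQ
import Groth.Agent.Red.K929.ScDatum
import Groth.Agent.Red.K217.CentKer
import Groth.Agent.RedSub.K197.Isog
import Groth.Agent.RedSub.K197.LocP
import Groth.Agent.RedSub.H650.QuotPts
import Groth.Agent.Sga3B.SplitBc264b
import Groth.Agent.Sga3B.SplitIso848
import Groth.Agent.Sga3B.SplitRedField415
import Groth.Agent.S5537
import Groth.Agent.S3950
import Groth.Agent.S3004
import Groth.Agent.S2962
import Groth.Agent.S8071
import Groth.Agent.Sga3B.AlgBc2

/-!
# The simply connected cover of a pinned semisimple group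

* `CI f`: `f` is a central isogeny;
* `quotCI`: the quotient of a split group by `D(M/N)`, `M/N` torsion, is a central isogeny;
* `quotAd`: the quotient of a split group by `D(M/root lattice)` is the quotient by the centre;
* `exists_cover`: a pinned semisimple group has a pinned simply connected cover.
-/

set_option autoImplicit false
open CategoryTheory MonoidalCategory CartesianMonoidalCategory MonObj GrpObj AlgebraicGeometry Limits
universe u

namespace Groth.Agent.Red.K929.Cover

open Groth.Agent.Sga3B Groth.Agent.Sga3B.DSPts CenKer AdQ ScDatum K197.Isog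

variable {S : Scheme.{u}}

/-- central isogenies -/
structure CI {H G : Over S} [GrpObj H] [GrpObj G] (f : H ⟶ G) : Prop where
  mon : IsMonHom f
  isog : IsIsog f.left
  ck : CK f

section CI

variable {H G L : Over S} [GrpObj H] [GrpObj G] [GrpObj L]

lemma CI.surj {f : H ⟶ G} (h : CI f) : Surjective f.left := ((isIsog_iff _).1 h.isog).1

lemma CI.flat {f : H ⟶ G} (h : CI f) : Flat f.left := ((isIsog_iff _).1 h.isog).2.1

lemma CI.fin {f : H ⟶ G} (h : CI f) : IsFinite f.left := ((isIsog_iff _).1 h.isog).2.2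

theorem CI.comp {f : H ⟶ G} {g : G ⟶ L} (hH : Red.IsSemisimple H) (hf : CI f) (hg : CI g) : CI (f ≫ g) := by
  have := hf.mon
  have := hg.mon
  exact ⟨inferInstance, by rw [Over.comp_left]; exact hf.isog.comp hg.isog, hf.ck.comp hH hg.ck⟩

theorem CI.comp_iso {f : H ⟶ G} (hf : CI f) (g : G ⟶ L) [IsMonHom g] [IsIso g] : CI (f ≫ g) := by
  have := hf.mon
  refine ⟨inferInstance, ?_, fun T k y hk => hf.ck T k y ?_⟩
  · rw [Over.comp_left]
    have : IsIso g.left := inferInstanceAs (IsIso ((Over.forget S).map g))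
    exact hf.isog.comp (IsIsog.of_isIso _)
  · rw [← cancel_mono g, MonObj.one_comp, Category.assoc]
    exact hk

theorem CI.bc {S' : Scheme.{u}} (v : S' ⟶ S) {f : H ⟶ G} (hf : CI f) :
    CI (H := Red.bc v H) (G := Red.bc v G) ((Over.pullback v).map f) := by
  have := hf.mon
  exact ⟨inferInstance, MorphismProperty.of_isPullback (Parab.FibIsoSch.isPullback_map_left v f) hf.isog,
    hf.ck.bc v⟩

end CI

section quot

variable {H : Over S} [GrpObj H] (E : Red.SplitRed H) (N : AddSubgroup E.M)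

open K217.CentKer

theorem ker_iff {G' : Over S} [GrpObj G'] {q : H ⟶ G'} [IsMonHom q]
    (hq : RedSub.IsQuotient (Red.DSmap S (QuotientAddGroup.mk' N) ≫ E.split.inv.hom.hom ≫ E.i) q)
    {T : Over S} (z : T ⟶ H) :
    z ≫ q = 1 ↔ ∃ x : T ⟶ Red.DS S (E.M ⧸ N), x ≫ k0 E N ≫ E.i = z := by
  have h := RedSub.H650.QuotPts.ptQuot_of_isPullback hq.2.2.2 T 1 z
  rw [MonObj.one_comp] at h
  constructor
  · intro hz
    obtain ⟨y, hy⟩ := h.1 hz.symm
    refine ⟨y, ?_⟩
    rw [hy, _root_.one_mul, k0, Category.assoc]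
  · rintro ⟨x, hx⟩
    refine (h.2 ⟨x, ?_⟩).symm
    rw [_root_.one_mul, ← hx, k0, Category.assoc]

/-- points of `D(M/N)` are central if `N` contains the roots -/
theorem cent_k0 (hN : ∀ a : E.idx, E.P.root a ∈ N) {T : Over S} (x : T ⟶ Red.DS S (E.M ⧸ N)) :
    Cent (x ≫ k0 E N ≫ E.i) := by
  intro T' y h
  refine (Groth.Agent.S2962.result E T (x ≫ k0 E N ≫ E.i)).2 ⟨x ≫ k0 E N, by rw [Category.assoc], fun a => ?_⟩ T' y h
  rw [← Category.assoc, AdCentre.dsChar_chi]
  exact chr_k0 E N x _ (hN a)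

theorem ck_of_isQuotient (hN : ∀ a : E.idx, E.P.root a ∈ N) {G' : Over S} [GrpObj G'] {q : H ⟶ G'} [IsMonHom q]
    (hq : RedSub.IsQuotient (Red.DSmap S (QuotientAddGroup.mk' N) ≫ E.split.inv.hom.hom ≫ E.i) q) : CK q := by
  intro T k y hk
  obtain ⟨x, rfl⟩ := (ker_iff E N hq k).1 hk
  exact Cent.commute (cent_k0 E N hN x) y

theorem isFinite_of_isQuotient [Finite (E.M ⧸ N)] {G' : Over S} [GrpObj G'] {q : H ⟶ G'}
    (hq : RedSub.IsQuotient (Red.DSmap S (QuotientAddGroup.mk' N) ≫ E.split.inv.hom.hom ≫ E.i) q)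
    [IsAffineHom q.left] :
    IsFinite q.left := by
  obtain ⟨h1, h2, h3, h4⟩ := hq
  have sq := h4.map (Over.forget S)
  have hf : IsFinite (fst H (Red.DS S (E.M ⧸ N))).left := by
    have sq2 : IsPullback (fst H (Red.DS S (E.M ⧸ N))).left (snd H (Red.DS S (E.M ⧸ N))).left H.hom
        (Red.DS S (E.M ⧸ N)).hom := by
      exact IsPullback.of_hasPullback H.hom (Red.DS S (E.M ⧸ N)).hom
    exact MorphismProperty.of_isPullback (P := @IsFinite) sq2.flip (isFinite_DS _)
  exact MorphismProperty.of_isPullback_of_descendsAlong (P := @IsFinite)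
    (Q := (@Surjective ⊓ @Flat ⊓ @QuasiCompact : MorphismProperty Scheme.{u})) sq ⟨⟨h1, h2⟩, (inferInstance : QuasiCompact q.left)⟩ hf

/-- **The quotient of a split group by `D(M/N)` is a central isogeny.** -/
theorem ci_of_isQuotient [Finite (E.M ⧸ N)] (hN : ∀ a : E.idx, E.P.root a ∈ N) {G' : Over S} [GrpObj G']
    {q : H ⟶ G'} [IsMonHom q] [IsSeparated G'.hom]
    (hq : RedSub.IsQuotient (Red.DSmap S (QuotientAddGroup.mk' N) ≫ E.split.inv.hom.hom ≫ E.i) q) : CI q := by
  have h1 : IsAffineHom H.hom := E.reductive.1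
  have h2 : IsAffineHom q.left := by
    have : IsAffineHom (q.left ≫ G'.hom) := by rw [Over.w]; exact h1
    exact IsAffineHom.of_comp q.left G'.hom
  exact ⟨inferInstance, (isIsog_iff _).2 ⟨hq.1, hq.2.1, isFinite_of_isQuotient E N hq⟩, ck_of_isQuotient E N hN hq⟩

/-- **The quotient of a split group by `D(M/Q)`, `Q` the root lattice, is the quotient by the centre.** -/
theorem isAdQ_of_isQuotient (hN : ∀ a : E.idx, E.P.root a ∈ N)
    (hN' : N ≤ AddSubgroup.closure (Set.range E.P.root)) {G' : Over S} [GrpObj G']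
    {q : H ⟶ G'} [IsMonHom q]
    (hq : RedSub.IsQuotient (Red.DSmap S (QuotientAddGroup.mk' N) ≫ E.split.inv.hom.hom ≫ E.i) q) :
    IsAdQ q := by
  refine ⟨inferInstance, hq.2.1, hq.1, hq.2.2.1, fun T z => ?_⟩
  rw [ker_iff E N hq]
  constructor
  · rintro ⟨x, rfl⟩
    exact cent_k0 E N hN x
  · intro hz
    obtain ⟨t, rfl, ht⟩ := (Groth.Agent.S2962.result E T z).1 hz
    obtain ⟨x, rfl⟩ := exists_lift_k0 E N t fun n hn => by
      refine AddSubgroup.closure_induction (p := fun n _ => dsChar (t ≫ E.split.hom.hom.hom) (Multiplicative.ofAdd n) = 1)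
        ?_ ?_ ?_ ?_ (hN' hn)
      · rintro _ ⟨a, rfl⟩
        rw [← AdCentre.dsChar_chi, Category.assoc]
        exact ht a
      · exact map_one _
      · intro x y _ _ hx hy
        rw [ofAdd_add, map_mul, hx, hy, _root_.one_mul]
      · intro x _ hx
        have h1 : dsChar (t ≫ E.split.hom.hom.hom) (Multiplicative.ofAdd (-x)) *
          dsChar (t ≫ E.split.hom.hom.hom) (Multiplicative.ofAdd x) = 1 := by
          rw [← map_mul, ← ofAdd_add, neg_add_cancel]
          exact map_one _
        rwa [hx, _root_.mul_one] at h1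
    exact ⟨x, by rw [Category.assoc]⟩

end quot

section semi

/-- A split group whose roots span rationally is semisimple. -/
theorem isSemisimple_of_spans {H : Over S} [GrpObj H] (E : Red.SplitRed H) (h : Spans E.P) :
    Red.IsSemisimple H := by
  obtain ⟨h1, h2, -⟩ := E.reductive
  refine ⟨h1, h2, fun s => ?_⟩
  rw [← AlgBc.isSemisimple_iff]
  exact (Groth.Agent.S8071.result _ _ (SplitBc264.splitBc (Red.geomPt s) E)).2 (finrank_quot _ h)

/-- The roots of a semisimple split group span rationally. -/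
theorem spans [Nonempty S] {G : Over S} [GrpObj G] (D : Red.SplitRed G) (hG : Red.IsSemisimple G) : Spans D.P :=
  fun m => BorSpan613.exists_zsmul_mem_span D hG (fun X t ht h => by
    have h1 := (Groth.Agent.S2962.result D X (t ≫ D.i)).2 ⟨t, rfl, ht⟩ X (𝟙 X) h
    rwa [Category.id_comp] at h1) m

end semi

section cover

variable [Nonempty S]

/-- **Existence of the simply connected cover of a pinned group.** -/
theorem exists_cover {G : Over S} [GrpObj G] (hG : Red.IsSemisimple G) (D : Red.Pinning G) :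
    ∃ (H : Over S) (_ : GrpObj H) (E : Red.Pinning H) (f : H ⟶ G), IsSC E.P ∧ Red.IsSemisimple H ∧ CI f := by
  have hs : Spans D.P := spans D.toSplitRed hG
  have hred : D.P.IsReduced := SplitReduced415.isReduced D.toSplitRed
  have hred' := sc_isReduced D.pairing_eq hs
  obtain ⟨H, _, E, h, -⟩ := Groth.Agent.S3950.result S (sc D.pairing_eq hs) (scBase D.pairing_eq hs D.base)
  have hspan : Spans E.P := (spans_sc D.pairing_eq hs).of_equiv h
  have hsc : IsSC E.P := (isSC_sc D.pairing_eq hs).of_equiv h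
  -- the embedding of the lattices
  let w := RootPairing.Equiv.weightEquiv E.P (sc D.pairing_eq hs) h
  let j : D.M →+ E.M := w.symm.toAddEquiv.toAddMonoidHom.comp (emb D.P).toAddMonoidHom
  have hj : ∀ m, w (j m) = emb D.P m := fun m => w.apply_symm_apply _
  have hji : Function.Injective j := w.symm.injective.comp (emb_injective D.pairing_eq hs)
  have hjr : ∀ a : E.idx, E.P.root a = j (D.P.root (h.indexEquiv a)) := fun a => w.injective (by
    rw [hj]
    exact RootPairing.Hom.root_weightMap_apply _ _ _ h.toHom)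
  obtain ⟨G1, _, q, hq, hQ, hG1, D1, τ, eidx, em, -, -, hem, -⟩ :=
    Groth.Agent.S5537.result E.toSplitRed j.range (fun a => ⟨_, (hjr a).symm⟩)
  -- the isomorphism `D.M ≃ D1.M`
  let θ : D.M ≃+ D1.M := (AddMonoidHom.ofInjective hji).trans em.symm
  have hθ : ∀ m, (em (θ m) : E.M) = j m := fun m => by
    simp only [θ, AddEquiv.trans_apply, AddEquiv.apply_symm_apply]
    rfl
  have hθr : ∀ i, θ (D.P.root i) = D1.P.root (h.indexEquiv.symm.trans eidx i) := fun i => em.injective (Subtype.ext (by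
    rw [hθ, Equiv.trans_apply, hem, hjr, Equiv.apply_symm_apply]))
  obtain ⟨Eq, -, -⟩ := exists_equiv_of_roots D1.pairing_eq D.pairing_eq hs θ (h.indexEquiv.symm.trans eidx) hθr
  let D1' : Red.Pinning G1 := { toSplitRed := D1, base := IsomComb.pullBase (Eq.symm D.P D1.P) D.base }
  obtain ⟨φ, ⟨hφ, -, -⟩, -⟩ := Groth.Agent.S3004.result S G1 G D1' D Eq (fun a => by
    change _ ↔ _ ∈ (IsomComb.pullBase (Eq.symm D.P D1.P) D.base).support
    rw [IsomComb.mem_pullBase]
    change _ ↔ Eq.indexEquiv.symm (Eq.indexEquiv a) ∈ _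
    rw [Equiv.symm_apply_apply])
  -- finiteness of the quotient
  have hfin : Finite (E.M ⧸ j.range) := by
    have hF : AddGroup.FG (E.M ⧸ j.range) := by
      have : AddGroup.FG E.M := Module.Finite.iff_addGroup_fg.mp inferInstance
      exact QuotientAddGroup.fg _
    have hF' : Module.Finite ℤ (E.M ⧸ j.range) := Module.Finite.iff_addGroup_fg.mpr hF
    apply Module.finite_of_fg_torsion
    intro x
    obtain ⟨x, rfl⟩ := QuotientAddGroup.mk_surjective x
    obtain ⟨n, hn, m, hm⟩ := exists_smul_mem_emb D.pairing_eq hs (w x)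
    refine ⟨⟨n, mem_nonZeroDivisors_of_ne_zero hn⟩, ?_⟩
    change n • (QuotientAddGroup.mk x : E.M ⧸ j.range) = 0
    rw [← QuotientAddGroup.mk_zsmul, QuotientAddGroup.eq_zero_iff]
    exact ⟨m, w.injective (by rw [hj, hm, map_zsmul])⟩
  have := hG1.1
  have hci := ci_of_isQuotient E.toSplitRed j.range (fun a => ⟨_, (hjr a).symm⟩) hQ
  have := hφ
  exact ⟨H, inferInstance, E, q ≫ φ.hom, hsc, isSemisimple_of_spans E.toSplitRed hspan, hci.comp_iso φ.hom⟩

end cover

end Groth.Agent.Red.K929.Cover
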