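import Groth.Agent.Red.K929.Local
import Groth.Agent.Sga3B.BcNat
import Groth.Agent.AlgSp.K594.Quot
import Groth.Agent.S2958

/-!
# Gluing of lifts through homomorphisms with central kernel

* `ev_eq_ev`: lifts over different coverings agree on points;
* `exists_glue`: local lifts glue;
* `exists_hom`: the mapping property of a pinned simply connected cover.
-/

set_option autoImplicit false
open CategoryTheory MonoidalCategory CartesianMonoidalCategory MonObj GrpObj AlgebraicGeometry Limits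
universe u

namespace Groth.Agent.Red.K929.Glue

open Groth.Agent.Sga3B Groth.Agent.Sga3B.BcPts CenKer AdQ ScDatum Cover K197.Isog

section ev

variable {S S' : Scheme.{u}} {f : S' ⟶ S}

lemma ev_comp_map {X Y Z : Over S} (φ : Red.bc f X ⟶ Red.bc f Y) (g : Y ⟶ Z) {T : Over S} (x : T ⟶ X)
    (t : T ⟶ Over.mk f) : ev φ x t ≫ g = ev (φ ≫ (Over.pullback f).map g) x t := by
  simp only [ev]
  rw [← Category.assoc _ φ, bcEquiv_symm_comp, Category.assoc]

lemma ev_map {X Y : Over S} (g : X ⟶ Y) {T : Over S} (x : T ⟶ X)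
    (t : T ⟶ Over.mk f) : ev (f := f) ((Over.pullback f).map g) x t = x ≫ g := by
  simp only [ev]
  rw [← bcEquiv_comp, Equiv.symm_apply_apply, ← Category.assoc, ← Category.assoc, Iso.inv_hom_id, Category.id_comp]

end ev

section pull

variable {S U : Scheme.{u}} {v : U ⟶ S} {H G' : Over S}

/-- the canonical morphism -/
noncomputable def can (Z : Over S) (X : Over Z.left) : (Over.map Z.hom).obj X ⟶ Z := Over.homMk X.hom

instance (Z : Over S) : IsIso (can Z (𝟙_ (Over Z.left))) := by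
  have : IsIso ((Over.forget S).map (can Z (𝟙_ (Over Z.left)))) := inferInstanceAs (IsIso (𝟙 Z.left))
  exact isIso_of_reflects_iso _ (Over.forget S)

lemma map_can (Z : Over S) {X Y : Over Z.left} (h : X ⟶ Y) : (Over.map Z.hom).map h ≫ can Z Y = can Z X := by
  ext1
  exact Over.w h

/-- base change of a homomorphism along a `U`-structure on `Z` -/
noncomputable def pull (ψ : Red.bc v H ⟶ Red.bc v G') {Z : Over S} (x : Z ⟶ Over.mk v) :
    Red.bc Z.hom H ⟶ Red.bc Z.hom G' :=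
  bcEquiv Z.hom (Red.bc Z.hom H) G'
    (ev ψ ((bcEquiv Z.hom (Red.bc Z.hom H) H).symm (𝟙 _)) (can Z (Red.bc Z.hom H) ≫ x))

lemma comp_pull (ψ : Red.bc v H ⟶ Red.bc v G') {Z : Over S} (x : Z ⟶ Over.mk v) {X : Over Z.left}
    (y : (Over.map Z.hom).obj X ⟶ H) :
    bcEquiv Z.hom X H y ≫ pull ψ x = bcEquiv Z.hom X G' (ev ψ y (can Z X ≫ x)) := by
  rw [pull, ← comp_bcEquiv, comp_ev, ← comp_bcEquiv_symm, Category.comp_id, Equiv.symm_apply_apply,
    ← Category.assoc, map_can]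

variable [GrpObj H] [GrpObj G']

instance isMonHom_pull (ψ : Red.bc v H ⟶ Red.bc v G') [IsMonHom ψ] {Z : Over S} (x : Z ⟶ Over.mk v) :
    IsMonHom (pull ψ x) := Pts.isMonHom_of_points _ fun X y y' => by
  obtain ⟨y, rfl⟩ := (bcEquiv Z.hom X H).surjective y
  obtain ⟨y', rfl⟩ := (bcEquiv Z.hom X H).surjective y'
  rw [← bcEquiv_mul, comp_pull, comp_pull, comp_pull, ev_mul, bcEquiv_mul]

lemma pull_comp {G : Over S} (ψ : Red.bc v H ⟶ Red.bc v G') {Z : Over S} (x : Z ⟶ Over.mk v)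
    (f : H ⟶ G) (f' : G' ⟶ G) (h : ψ ≫ (Over.pullback v).map f' = (Over.pullback v).map f) :
    pull ψ x ≫ (Over.pullback Z.hom).map f' = (Over.pullback Z.hom).map f := by
  have key : ∀ (X : Over Z.left) (y : X ⟶ Red.bc Z.hom H), y ≫ pull ψ x ≫ (Over.pullback Z.hom).map f' =
      y ≫ (Over.pullback Z.hom).map f := by
    intro X y
    obtain ⟨y, rfl⟩ := (bcEquiv Z.hom X H).surjective y
    rw [← Category.assoc, comp_pull, ← bcEquiv_comp, ev_comp_map, h, ev_map, bcEquiv_comp]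
  have := key _ (𝟙 _)
  rwa [Category.id_comp, Category.id_comp] at this

end pull

section fam

variable {S : Scheme.{u}}

/-- the projection `X ×_S U → X` -/
noncomputable def qo {U : Scheme.{u}} (v : U ⟶ S) (X : Over S) : (Over.map v).obj (Red.bc v X) ⟶ X :=
  (bcEquiv v _ X).symm (𝟙 _)

/-- the projection `X ×_S U → U` -/
noncomputable def ro {U : Scheme.{u}} (v : U ⟶ S) (X : Over S) : (Over.map v).obj (Red.bc v X) ⟶ Over.mk v :=
  Over.homMk (Red.bc v X).hom

lemma qo_left {U : Scheme.{u}} (v : U ⟶ S) (X : Over S) : (qo v X).left = pullback.fst X.hom v := by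
  change (((Over.mapPullbackAdj v).homEquiv _ _).symm (𝟙 _)).left = _
  rw [Adjunction.homEquiv_counit]
  simp

lemma sq_qo {U : Scheme.{u}} (v : U ⟶ S) (X : Over S) :
    IsPullback (qo v X).left (Red.bc v X).hom X.hom v := by
  rw [qo_left]
  exact IsPullback.of_hasPullback X.hom v

lemma fam_qo (X : Over S) {κ : Type u} {U : κ → Scheme.{u}} (v : ∀ i, U i ⟶ S) (hv1 : ∀ i, Flat (v i))
    (hv2 : ∀ i, LocallyOfFinitePresentation (v i)) (hv3 : ∀ s : S, ∃ i, s ∈ Set.range (v i)) :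
    K594.Cover.Fam fun i => qo (v i) X := by
  refine ⟨fun s => ?_, fun s => ?_, fun t => ?_⟩
  · exact MorphismProperty.of_isPullback (P := @Flat) (sq_qo _ X).flip (hv1 s)
  · exact MorphismProperty.of_isPullback (P := @LocallyOfFinitePresentation) (sq_qo _ X).flip (hv2 s)
  · obtain ⟨i, y, hy⟩ := hv3 (X.hom t)
    obtain ⟨w, hw, -⟩ := Scheme.Pullback.exists_preimage_pullback t y hy.symm
    refine ⟨i, w, ?_⟩
    rw [qo_left]
    exact hw

/-- points of `X ×_S U` -/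
lemma exists_pt {U : Scheme.{u}} (v : U ⟶ S) (X : Over S) {Z : Over S} (y : Z ⟶ X) (x : Z ⟶ Over.mk v) :
    ∃ a : Z ⟶ (Over.map v).obj (Red.bc v X), a ≫ qo v X = y ∧ a ≫ ro v X = x := by
  have hx : Z.hom = x.left ≫ v := (Over.w x).symm
  refine ⟨Over.homMk ((sq_qo v X).lift y.left x.left (by rw [Over.w]; exact hx)) (by
      change _ ≫ (Red.bc v X).hom ≫ v = _
      rw [IsPullback.lift_snd_assoc]
      exact hx.symm), ?_, ?_⟩
  · ext1
    exact (sq_qo v X).lift_fst _ _ _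
  · ext1
    exact (sq_qo v X).lift_snd _ _ _

end fam

section glue

variable {S : Scheme.{u}} {G H G' : Over S} [GrpObj G] [GrpObj H] [GrpObj G']

/-- **Uniqueness on points.** -/
theorem ev_eq_ev (hH : Red.IsSemisimple H) (f : H ⟶ G) [IsMonHom f] (f' : G' ⟶ G) [IsMonHom f'] (hf' : CK f')
    {U₁ U₂ : Scheme.{u}} {v₁ : U₁ ⟶ S} {v₂ : U₂ ⟶ S} (ψ₁ : Red.bc v₁ H ⟶ Red.bc v₁ G') [IsMonHom ψ₁]
    (ψ₂ : Red.bc v₂ H ⟶ Red.bc v₂ G') [IsMonHom ψ₂]
    (h₁ : ψ₁ ≫ (Over.pullback v₁).map f' = (Over.pullback v₁).map f)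
    (h₂ : ψ₂ ≫ (Over.pullback v₂).map f' = (Over.pullback v₂).map f)
    {Z : Over S} (y : Z ⟶ H) (x₁ : Z ⟶ Over.mk v₁) (x₂ : Z ⟶ Over.mk v₂) : ev ψ₁ y x₁ = ev ψ₂ y x₂ := by
  have hZ : Red.IsSemisimple (Red.bc Z.hom H) := RedBcAny636.isSemisimple_bc Z.hom hH
  have e := eq_of_comp_eq hZ ((Over.pullback Z.hom).map f') (hf'.bc Z.hom) (pull ψ₁ x₁) (pull ψ₂ x₂)
    ((pull_comp ψ₁ x₁ f f' h₁).trans (pull_comp ψ₂ x₂ f f' h₂).symm)
  have e1 := congrArg (fun w => bcEquiv Z.hom (𝟙_ _) H (can Z (𝟙_ _) ≫ y) ≫ w) e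
  beta_reduce at e1
  rw [comp_pull, comp_pull, ← comp_ev, ← comp_ev] at e1
  exact (cancel_epi _).1 ((bcEquiv Z.hom _ G').injective e1)

/-- **Gluing of lifts.** -/
theorem exists_glue (hH : Red.IsSemisimple H) (f : H ⟶ G) [IsMonHom f] (f' : G' ⟶ G) [IsMonHom f'] (hf' : CK f')
    (hloc : ∀ s : S, ∃ (U : Scheme.{u}) (v : U ⟶ S), Flat v ∧ LocallyOfFinitePresentation v ∧ s ∈ Set.range v ∧
      ∃ ψ : Red.bc v H ⟶ Red.bc v G', IsMonHom ψ ∧ IsIsog ψ.left ∧
        ψ ≫ (Over.pullback v).map f' = (Over.pullback v).map f) :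
    ∃ α : H ⟶ G', IsMonHom α ∧ IsIsog α.left ∧ α ≫ f' = f := by
  choose U v hv1 hv2 hv3 ψ hψ1 hψ2 hψ3 using hloc
  have hfam : ∀ X : Over S, K594.Cover.Fam fun s => qo (v s) X := fun X =>
    fam_qo X v hv1 hv2 fun s => ⟨s, hv3 s⟩
  obtain ⟨α, hα⟩ := K594.Quot.exists_glue_hom (hfam H) (fun s => ev (ψ s) (qo (v s) H) (ro (v s) H))
    (fun s t Z a b hab => by
      have := hψ1 s
      have := hψ1 t
      rw [comp_ev, comp_ev, hab]
      exact ev_eq_ev hH f f' hf' (ψ s) (ψ t) (hψ3 s) (hψ3 t) _ _ _)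
  -- `α` computes the values of the local homomorphisms
  have hev : ∀ (s : S) {Z : Over S} (y : Z ⟶ H) (x : Z ⟶ Over.mk (v s)), y ≫ α = ev (ψ s) y x := by
    intro s Z y x
    obtain ⟨a, rfl, rfl⟩ := exists_pt (v s) H y x
    rw [Category.assoc, hα, comp_ev]
  have hα1 : IsMonHom α := Pts.isMonHom_of_points _ fun X x y => by
    refine K594.Quot.hom_ext_fam (hfam X) fun s => ?_
    have := hψ1 s
    rw [← Category.assoc, hev s _ (ro (v s) X), MonObj.comp_mul, ev_mul, MonObj.comp_mul, ← Category.assoc,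
      ← Category.assoc, hev s _ (ro (v s) X), hev s _ (ro (v s) X)]
  have hα2 : α ≫ f' = f := by
    refine K594.Quot.hom_ext_fam (hfam H) fun s => ?_
    rw [← Category.assoc, hα, ev_comp_map, hψ3, ev_map]
  refine ⟨α, hα1, ?_, hα2⟩
  refine K197.LocP.of_locally IsIsog α fun s => ⟨U s, v s, hv1 s, hv2 s, hv3 s, ?_⟩
  have := hψ1 s
  have e : (Over.pullback (v s)).map α = ψ s :=
    eq_of_comp_eq (RedBcAny636.isSemisimple_bc (v s) hH) ((Over.pullback (v s)).map f') (hf'.bc (v s)) _ _ (by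
      rw [← Functor.map_comp, hα2, hψ3])
  rw [e]
  exact hψ2 s

end glue

section main

variable {S : Scheme.{u}} {G H G' : Over S} [GrpObj G] [GrpObj H] [GrpObj G']

open RedIso BcNat in
theorem exists_hom_local (hG : Red.IsSemisimple G) (E : Red.Pinning H) (hc : IsSC E.P)
    (hH : Red.IsSemisimple H) {f : H ⟶ G} (hf : CI f) (hG' : Red.IsSemisimple G') {f' : G' ⟶ G} (hf' : CI f')
    (s : S) :
    ∃ (U : Scheme.{u}) (v : U ⟶ S), Flat v ∧ LocallyOfFinitePresentation v ∧ s ∈ Set.range v ∧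
      ∃ ψ : Red.bc v H ⟶ Red.bc v G', IsMonHom ψ ∧ IsIsog ψ.left ∧
        ψ ≫ (Over.pullback v).map f' = (Over.pullback v).map f := by
  obtain ⟨W, w, hw, ⟨w₀, hw₀⟩, ⟨D₀⟩⟩ := Groth.Agent.S2958.result G' ⟨hG'.1, hG'.2.1, fun s => (hG'.2.2 s).1⟩ s
  have : Nonempty W := ⟨w₀⟩
  obtain ⟨D, -⟩ := SplitIso848.nonempty_pinning D₀ (SplitReduced415.isReduced D₀)
  obtain ⟨H', _, E', β, hE', hH', hβ⟩ := exists_cover (RedBcAny636.isSemisimple_bc w hG') D
  obtain ⟨U, v, hv1, hv2, ⟨x, hx⟩, ψ, hψ1, hψ2, hψ3⟩ := Local.exists_iso_local (RedBcAny636.isSemisimple_bc w hG)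
    (SplitBc264.pinBc w E) hc (RedBcAny636.isSemisimple_bc w hH) (hf.bc w) E' hE' hH' (hβ.comp hH' (hf'.bc w)) w₀
  have := hβ.mon
  refine ⟨U, v ≫ w, inferInstance, inferInstance, ⟨x, ?_⟩,
    (und (BcIso.bcCompIso v w H)).hom ≫ (ψ ≫ (Over.pullback v).map β) ≫ (und (BcIso.bcCompIso v w G')).inv,
    inferInstance, ?_, ?_⟩
  · rw [Scheme.Hom.comp_apply, hx]
    exact hw₀
  · have h1 : IsIso (und (BcIso.bcCompIso v w H)).hom.left :=
      inferInstanceAs (IsIso ((Over.forget _).map (und (BcIso.bcCompIso v w H)).hom))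
    have h2 : IsIso (und (BcIso.bcCompIso v w G')).inv.left :=
      inferInstanceAs (IsIso ((Over.forget _).map (und (BcIso.bcCompIso v w G')).inv))
    have h3 : IsIso ψ.left := inferInstanceAs (IsIso ((Over.forget _).map ψ))
    rw [Over.comp_left, Over.comp_left, Over.comp_left]
    exact (IsIsog.of_isIso _).comp (((IsIsog.of_isIso _).comp (hβ.bc v).isog).comp (IsIsog.of_isIso _))
  · rw [Category.assoc, Category.assoc, comp_nat_inv, Category.assoc,
      ← Category.assoc ((Over.pullback v).map β), ← Functor.map_comp, ← Category.assoc ψ, hψ3, ← comp_nat_inv,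
      Iso.hom_inv_id_assoc]

/-- **The mapping property of a pinned simply connected cover.** -/
theorem exists_hom (hG : Red.IsSemisimple G) (E : Red.Pinning H) (hc : IsSC E.P)
    (hH : Red.IsSemisimple H) {f : H ⟶ G} (hf : CI f) (hG' : Red.IsSemisimple G') {f' : G' ⟶ G} (hf' : CI f') :
    ∃ α : H ⟶ G', IsMonHom α ∧ IsIsog α.left ∧ α ≫ f' = f := by
  have := hf.mon
  have := hf'.mon
  exact exists_glue hH f f' hf'.ck (exists_hom_local hG E hc hH hf hG' hf')

end main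

end Groth.Agent.Red.K929.Glue
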