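import Groth.Agent.Red.K929.App
import Groth.Agent.Red.K929.Glue
import Groth.Agent.RedSub.K208.EtGlueGrp

/-!
# The descent datum of local simply connected covers
-/

set_option autoImplicit false
set_option backward.isDefEq.respectTransparency false
set_option backward.isDefEq.respectTransparency.types false
open CategoryTheory MonoidalCategory CartesianMonoidalCategory MonObj GrpObj AlgebraicGeometry Limits
universe u

namespace Groth.Agent.Red.K929.Datum

open Groth.Agent.Sga3B Groth.Agent.Sga3B.BcPts Groth.Agent.Sga3B.RedIso CenKer ScDatum Cover App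

variable {S : Scheme.{u}} (G : Over S) [GrpObj G]

/-- A simply connected cover over `U ⟶ S`. -/
structure Loc where
  U : Scheme.{u}
  u : U ⟶ S
  H : Over U
  [grp : GrpObj H]
  E : Red.Pinning H
  c : H ⟶ Red.bc u G
  sc : IsSC E.P
  ss : Red.IsSemisimple H
  ci : CI c

attribute [instance] Loc.grp

variable {G}

section im

variable (L : Loc G) {W W' : Scheme.{u}}

/-- the image of a point in `G` -/
noncomputable def im (v : W ⟶ L.H.left) : W ⟶ G.left := v ≫ L.c.left ≫ pullback.fst G.hom L.u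

lemma im_hom (v : W ⟶ L.H.left) : im L v ≫ G.hom = v ≫ L.H.hom ≫ L.u := by
  have h : L.c.left ≫ pullback.snd G.hom L.u = L.H.hom := Over.w L.c
  rw [im, Category.assoc, Category.assoc, pullback.condition, ← Category.assoc L.c.left, h]

lemma comp_im (k : W' ⟶ W) (v : W ⟶ L.H.left) : k ≫ im L v = im L (k ≫ v) := by
  rw [im, im, Category.assoc]

lemma im_mul (a : W ⟶ L.U) (v v' : W ⟶ L.H.left) (hv : v ≫ L.H.hom = a) (hv' : v' ≫ L.H.hom = a) :
    im L (mulPt a v v' hv hv') = mulPt (a ≫ L.u) (im L v) (im L v') (by rw [im_hom, ← Category.assoc, hv])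
      (by rw [im_hom, ← Category.assoc, hv']) := by
  have hm := L.ci.mon
  have e : ∀ (w : W ⟶ L.H.left) (hw : w ≫ L.H.hom = a) (hw' : im L w ≫ G.hom = a ≫ L.u),
      (Over.homMk w hw : Over.mk a ⟶ L.H) ≫ L.c =
        bcEquiv L.u (Over.mk a) G (Over.homMk (im L w) hw') := by
    intro w hw hw'
    ext1
    rw [bcEquiv_left]
    apply pullback.hom_ext
    · exact (Category.assoc _ _ _).trans (pullback.lift_fst _ _ _).symm
    · exact (Over.w ((Over.homMk w hw : Over.mk a ⟶ L.H) ≫ L.c)).trans (pullback.lift_snd _ _ _).symm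
  have h1 := MonObj.mul_comp (Over.homMk v hv : Over.mk a ⟶ L.H) (Over.homMk v' hv') L.c
  rw [e v hv (by rw [im_hom, ← Category.assoc, hv]), e v' hv' (by rw [im_hom, ← Category.assoc, hv']),
    ← bcEquiv_mul] at h1
  have h2 := congrArg (fun w => w.left ≫ pullback.fst G.hom L.u) h1
  beta_reduce at h2
  rw [bcEquiv_left] at h2
  refine Eq.trans ?_ (h2.trans (pullback.lift_fst _ _ _))
  exact (Category.assoc _ _ _).symm

end im

section theta

variable {L L' : Loc G} {T : Scheme.{u}} (x : T ⟶ L.U) (y : T ⟶ L'.U) (h : x ≫ L.u = y ≫ L'.u)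

/-- the base change of `L.c` to `T` -/
noncomputable def cBc (L : Loc G) (x : T ⟶ L.U) {t : T ⟶ S} (h : x ≫ L.u = t) : Red.bc x L.H ⟶ Red.bc t G :=
  ((Over.pullback x).map L.c ≫ (und (BcIso.bcCompIso x L.u G)).inv) ≫ (und (BcIso.bcCongrIso h G)).hom

lemma ci_cBc (L : Loc G) (x : T ⟶ L.U) {t : T ⟶ S} (h : x ≫ L.u = t) : CI (cBc L x h) :=
  ((L.ci.bc x).comp_iso (und (BcIso.bcCompIso x L.u G)).inv).comp_iso (und (BcIso.bcCongrIso h G)).hom

lemma cBc_left (L : Loc G) (x : T ⟶ L.U) {t : T ⟶ S} (h : x ≫ L.u = t) :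
    (cBc L x h).left ≫ pullback.fst G.hom t = im L (pullback.fst L.H.hom x) := by
  have e1 : (und (BcIso.bcCongrIso h G)).hom.left ≫ pullback.fst G.hom t = pullback.fst G.hom (x ≫ L.u) :=
    SplitBc264.bcCongrIso_left h G
  have e2 : (und (BcIso.bcCompIso x L.u G)).inv.left ≫ pullback.fst G.hom (x ≫ L.u) =
      pullback.fst (Red.bc L.u G).hom x ≫ pullback.fst G.hom L.u := by
    have h1 := SplitBc264.bcCompIso_left x L.u G
    have h2 : (und (BcIso.bcCompIso x L.u G)).inv.left ≫ (BcIso.bcCompIso x L.u G).hom.hom.hom.left = 𝟙 _ := by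
      rw [← Over.comp_left]
      exact congrArg (fun k => k.left) (und (BcIso.bcCompIso x L.u G)).inv_hom_id
    rw [← h1, ← Category.assoc, h2, Category.id_comp]
  have e3 : ((Over.pullback x).map L.c).left ≫ pullback.fst (Red.bc L.u G).hom x =
      pullback.fst L.H.hom x ≫ L.c.left := by simp
  rw [cBc, Over.comp_left, Over.comp_left, Category.assoc, e1, Category.assoc, e2, ← Category.assoc, e3,
    Category.assoc]
  rfl

lemma comp_eq_iff (α : Red.bc x L.H ⟶ Red.bc y L'.H) :
    α ≫ cBc L' y h.symm = cBc L x rfl ↔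
      ∀ ⦃W : Scheme.{u}⦄ (g : W ⟶ T) (v : W ⟶ L.H.left) (hv : v ≫ L.H.hom = g ≫ x),
        im L' (app α g v hv) = im L v := by
  constructor
  · intro hα W g v hv
    have h1 := congrArg (fun k => pullback.lift v g hv ≫ k.left ≫ pullback.fst G.hom (x ≫ L.u)) hα
    beta_reduce at h1
    rw [cBc_left, Over.comp_left, Category.assoc, cBc_left, comp_im, comp_im, comp_im, pullback.lift_fst] at h1
    exact h1
  · intro hα
    ext1
    apply pullback.hom_ext
    · rw [Over.comp_left, Category.assoc, cBc_left, cBc_left, comp_im]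
      have h1 := hα (pullback.snd L.H.hom x) (pullback.fst L.H.hom x) pullback.condition
      have e : pullback.lift (pullback.fst L.H.hom x) (pullback.snd L.H.hom x) pullback.condition = 𝟙 _ := by
        apply pullback.hom_ext <;> simp
      rw [app, e, Category.id_comp] at h1
      exact h1
    · exact (Over.w _).trans (Over.w _).symm

/-- **Existence of the comparison of local covers.** -/
theorem exists_theta (hG : Red.IsSemisimple G) (h' : x ≫ L.u = y ≫ L'.u) :
    ∃ α : Red.bc x L.H ⟶ Red.bc y L'.H, IsMonHom α ∧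
      ∀ ⦃W : Scheme.{u}⦄ (g : W ⟶ T) (v : W ⟶ L.H.left) (hv : v ≫ L.H.hom = g ≫ x),
        im L' (app α g v hv) = im L v := by
  obtain ⟨α, h1, -, h2⟩ := Glue.exists_hom (RedBcAny636.isSemisimple_bc (x ≫ L.u) hG)
    (SplitBc264.pinBc x L.E) L.sc (RedBcAny636.isSemisimple_bc x L.ss) (ci_cBc L x rfl)
    (RedBcAny636.isSemisimple_bc y L'.ss) (ci_cBc L' y h'.symm)
  exact ⟨α, h1, (comp_eq_iff x y h' α).1 h2⟩

/-- **Uniqueness of the comparison of local covers.** -/
theorem theta_unique (h' : x ≫ L.u = y ≫ L'.u) (α β : Red.bc x L.H ⟶ Red.bc y L'.H) [IsMonHom α] [IsMonHom β]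
    (hα : ∀ ⦃W : Scheme.{u}⦄ (g : W ⟶ T) (v : W ⟶ L.H.left) (hv : v ≫ L.H.hom = g ≫ x),
        im L' (app α g v hv) = im L v)
    (hβ : ∀ ⦃W : Scheme.{u}⦄ (g : W ⟶ T) (v : W ⟶ L.H.left) (hv : v ≫ L.H.hom = g ≫ x),
        im L' (app β g v hv) = im L v) : α = β := by
  have hc := ci_cBc L' y h'.symm
  have := hc.mon
  exact eq_of_comp_eq (RedBcAny636.isSemisimple_bc x L.ss) (cBc L' y h'.symm) hc.ck α β
    (((comp_eq_iff x y h' α).2 hα).trans ((comp_eq_iff x y h' β).2 hβ).symm)

end theta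

section datum

variable (hG : Red.IsSemisimple G) {κ : Type u} (L : κ → Loc G)

/-- the comparison -/
noncomputable def th {T : Scheme.{u}} {i j : κ} (x : T ⟶ (L i).U) (y : T ⟶ (L j).U) (h : x ≫ (L i).u = y ≫ (L j).u) :
    Red.bc x (L i).H ⟶ Red.bc y (L j).H := (exists_theta x y hG h).choose

instance isMonHom_th {T : Scheme.{u}} {i j : κ} (x : T ⟶ (L i).U) (y : T ⟶ (L j).U)
    (h : x ≫ (L i).u = y ≫ (L j).u) : IsMonHom (th hG L x y h) := (exists_theta x y hG h).choose_spec.1

lemma im_th {T : Scheme.{u}} {i j : κ} (x : T ⟶ (L i).U) (y : T ⟶ (L j).U)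
    (h : x ≫ (L i).u = y ≫ (L j).u) {W : Scheme.{u}} (g : W ⟶ T) (v : W ⟶ (L i).H.left)
    (hv : v ≫ (L i).H.hom = g ≫ x) : im (L j) (app (th hG L x y h) g v hv) = im (L i) v :=
  (exists_theta x y hG h).choose_spec.2 g v hv

lemma eq_th {T : Scheme.{u}} {i j : κ} (x : T ⟶ (L i).U) (y : T ⟶ (L j).U)
    (h : x ≫ (L i).u = y ≫ (L j).u) (α : Red.bc x (L i).H ⟶ Red.bc y (L j).H) [IsMonHom α]
    (hα : ∀ ⦃W : Scheme.{u}⦄ (g : W ⟶ T) (v : W ⟶ (L i).H.left) (hv : v ≫ (L i).H.hom = g ≫ x),
        im (L j) (app α g v hv) = im (L i) v) : α = th hG L x y h :=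
  theta_unique x y h α (th hG L x y h) hα fun _ g v hv => im_th hG L x y h g v hv

lemma app_th_congr {T : Scheme.{u}} {i j : κ} {x x' : T ⟶ (L i).U} (hx : x = x') {y y' : T ⟶ (L j).U} (hy : y = y')
    (h : x ≫ (L i).u = y ≫ (L j).u) {W : Scheme.{u}} {g g' : W ⟶ T} (hg : g = g') {v v' : W ⟶ (L i).H.left}
    (hvv : v = v') (hv : v ≫ (L i).H.hom = g ≫ x) :
    app (th hG L x y h) g v hv = app (th hG L x' y' (by rw [← hx, ← hy, h])) g' v' (by rw [← hx, ← hg, ← hvv, hv]) := by
  subst hx; subst hy; subst hg; subst hvv; rfl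

/-- The descent datum. -/
noncomputable def dat : K208.EtGlue.Dat S where
  J := κ
  V j := (L j).U
  v j := (L j).u
  E j := (L j).H
  φ {_ _ R} b c h x := Over.homMk (app (th hG L b c h) (𝟙 R) x.left ((Over.w x).trans (Category.id_comp _).symm))
    ((app_hom _ _ _ _).trans (Category.id_comp _))
  φ_nat {i j R R'} r b c h h' x := by
    ext1
    have hx : x.left ≫ (L i).H.hom = b := Over.w x
    have e0 : res (th hG L b c h) r = th hG L (r ≫ b) (r ≫ c) h' :=
      eq_th hG L _ _ h' _ fun W k w hw => by rw [app_res, im_th]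
    have e1 : app (res (th hG L b c h) r) (𝟙 R') (r ≫ x.left) (by rw [Category.id_comp, Category.assoc, hx]) =
        r ≫ app (th hG L b c h) (𝟙 R) x.left (by rw [Category.id_comp, hx]) := by
      rw [app_res, comp_app _ _ _ _ _ (by rw [Category.comp_id, Category.assoc, hx])]
      exact app_congr _ (by rw [Category.comp_id, Category.id_comp]) rfl _
    have e2 : app (res (th hG L b c h) r) (𝟙 R') (r ≫ x.left) (by rw [Category.id_comp, Category.assoc, hx]) =
        app (th hG L (r ≫ b) (r ≫ c) h') (𝟙 R') (r ≫ x.left) (by rw [Category.id_comp, Category.assoc, hx]) := by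
      rw [e0]
    exact e2.symm.trans e1
  φ_self {i R} b x := by
    ext1
    have hx : x.left ≫ (L i).H.hom = b := Over.w x
    have e0 : 𝟙 (Red.bc b (L i).H) = th hG L b b rfl :=
      eq_th hG L _ _ rfl _ fun W k w hw => by rw [app_id]
    have e1 := app_id (x := b) (𝟙 R) x.left (by rw [Category.id_comp, hx])
    rw [e0] at e1
    exact e1
  φ_comp {i j k R} b c d h h' x := by
    ext1
    have hx : x.left ≫ (L i).H.hom = b := Over.w x
    have e0 : th hG L b c h ≫ th hG L c d h' = th hG L b d (h.trans h') :=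
      eq_th hG L _ _ _ _ fun W k w hw => by rw [← app_app, im_th, im_th]
    have e1 := app_app (th hG L b c h) (th hG L c d h') (𝟙 R) x.left (by rw [Category.id_comp, hx])
    rw [e0] at e1
    exact e1

instance (j : (dat hG L).J) : GrpObj ((dat hG L).E j) := inferInstanceAs (GrpObj (L j).H)

lemma im_φ {i j : (dat hG L).J} {R : Scheme.{u}} (b : R ⟶ (dat hG L).V i) (c : R ⟶ (dat hG L).V j)
    (h : b ≫ (dat hG L).v i = c ≫ (dat hG L).v j) (x : Over.mk b ⟶ (dat hG L).E i) :
    im (L j) ((dat hG L).φ b c h x).left = im (L i) x.left :=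
  im_th hG L b c h (𝟙 R) x.left (by rw [Category.id_comp]; exact Over.w x)

theorem isMul_dat : (dat hG L).IsMul := by
  intro i j R b c h x y
  ext1
  have hx : x.left ≫ (L i).H.hom = 𝟙 R ≫ b := by rw [Category.id_comp]; exact Over.w x
  have hy : y.left ≫ (L i).H.hom = 𝟙 R ≫ b := by rw [Category.id_comp]; exact Over.w y
  have h1 := app_mul (th hG L b c h) (𝟙 R) x.left y.left hx hy
  have h2 : mulPt (𝟙 R ≫ b) x.left y.left hx hy = (x * y : Over.mk b ⟶ (L i).H).left :=
    mulPt_congr (Category.id_comp _) rfl rfl _ _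
  have h3 : app (th hG L b c h) (𝟙 R) (x * y : Over.mk b ⟶ (L i).H).left (by
      rw [Category.id_comp]; exact Over.w _) =
      app (th hG L b c h) (𝟙 R) (mulPt (𝟙 R ≫ b) x.left y.left hx hy) (mulPt_hom _ _ _ _ _) :=
    app_congr _ rfl h2.symm _
  exact h3.trans (h1.trans (mulPt_congr (Category.id_comp _) rfl rfl _ _))

end datum

end Groth.Agent.Red.K929.Datum
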