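import Groth.Agent.Red.K929.Datum
import Groth.Agent.Sga3B.IsomPin848
import Groth.Agent.Sga3B.Parab.RedCover147

/-!
# The simply connected cover
-/

set_option autoImplicit false
set_option backward.isDefEq.respectTransparency false
set_option backward.isDefEq.respectTransparency.types false
open CategoryTheory MonoidalCategory CartesianMonoidalCategory MonObj GrpObj AlgebraicGeometry Limits
universe u

namespace Groth.Agent.Red.K929.Global

open Groth.Agent.Sga3B Groth.Agent.Sga3B.BcPts Groth.Agent.Sga3B.RedIso CenKer ScDatum Cover App Glue Datum K197.Isog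

variable {S : Scheme.{u}}

section local_

variable {κ : Type u} {U : κ → Scheme.{u}} (v : ∀ i, U i ⟶ S) (hv1 : ∀ i, Flat (v i))
    (hv2 : ∀ i, LocallyOfFinitePresentation (v i)) (hv3 : ∀ s : S, ∃ i, s ∈ Set.range (v i))
    {H G : Over S} [GrpObj H] [GrpObj G]

include hv1 hv2 hv3

/-- being a homomorphism is local -/
theorem isMonHom_of_bc (f : H ⟶ G) (h : ∀ i, IsMonHom ((Over.pullback (v i)).map f)) : IsMonHom f :=
  Pts.isMonHom_of_points _ fun X x y => by
    refine K594.Quot.hom_ext_fam (fam_qo X v hv1 hv2 hv3) fun i => ?_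
    have := h i
    apply (bcEquiv (v i) (Red.bc (v i) X) G).injective
    rw [← Category.assoc, bcEquiv_comp, MonObj.comp_mul, bcEquiv_mul,
      MonObj.mul_comp (bcEquiv (v i) (Red.bc (v i) X) H (qo (v i) X ≫ x))
        (bcEquiv (v i) (Red.bc (v i) X) H (qo (v i) X ≫ y)) ((Over.pullback (v i)).map f),
      ← bcEquiv_comp, ← bcEquiv_comp, ← bcEquiv_mul, MonObj.comp_mul, Category.assoc, Category.assoc]

/-- centrality of the kernel is local -/
theorem ck_of_bc (f : H ⟶ G) (h : ∀ i, CK (H := Red.bc (v i) H) (G := Red.bc (v i) G) ((Over.pullback (v i)).map f)) :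
    CK f := by
  intro T k y hk
  refine K594.Quot.hom_ext_fam (fam_qo T v hv1 hv2 hv3) fun i => ?_
  apply (bcEquiv (v i) (Red.bc (v i) T) H).injective
  rw [MonObj.comp_mul, MonObj.comp_mul, bcEquiv_mul, bcEquiv_mul]
  refine h i _ _ _ ?_
  have h1 := bcEquiv_comp (v i) (qo (v i) T ≫ k) f
  rw [Category.assoc, hk, MonObj.comp_one, bcEquiv_one] at h1
  exact h1.symm

end local_

section global

variable {G : Over S} [GrpObj G]

/-- **Gluing of local covers.** -/
theorem exists_global (hG : Red.IsSemisimple G) {κ : Type u} (L : κ → Loc G) (he : ∀ j, Etale (L j).u)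
    (hcov : ∀ s : S, ∃ j, s ∈ Set.range (L j).u) (hV : ∀ j, IsAffine (L j).U) :
    ∃ (A : Over S) (_ : GrpObj A) (f : A ⟶ G) (e : ∀ j, Red.bc (L j).u A ≅ (L j).H), Red.IsSemisimple A ∧ CI f ∧
      (∀ j, IsMonHom (e j).hom) ∧ ∀ j, (Over.pullback (L j).u).map f = (e j).hom ≫ (L j).c := by
  obtain ⟨A, _, e, hA, he1, he2, -, -⟩ := (dat hG L).exists_glue_grp (isMul_dat hG L) he hcov hV
    (fun j => (L j).ss.1)
  have hfl : ∀ j, Flat (L j).u := fun j => have := he j; inferInstance
  have hlf : ∀ j, LocallyOfFinitePresentation (L j).u := fun j => have := he j; inferInstance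
  have hw : ∀ j : κ, (e j).hom.left ≫ (L j).H.hom = (Red.bc (L j).u A).hom := fun j => Over.w (e j).hom
  let φ : ∀ j : κ, (Over.map (L j).u).obj (Red.bc (L j).u A) ⟶ G := fun j =>
    Over.homMk (im (L j) (e j).hom.left) (by
      rw [im_hom, ← Category.assoc, hw]
      rfl)
  obtain ⟨f, hf⟩ := K594.Quot.exists_glue_hom (fam_qo A (fun j => (L j).u) hfl hlf hcov) φ (by
    intro i j Z a b hab
    ext1
    change a.left ≫ im (L i) (e i).hom.left = b.left ≫ im (L j) (e j).hom.left
    rw [comp_im, comp_im]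
    have ha : (a.left ≫ (Red.bc (L i).u A).hom) ≫ (L i).u = Z.hom := by
      rw [Category.assoc]
      exact Over.w a
    have hb : (b.left ≫ (Red.bc (L j).u A).hom) ≫ (L j).u = Z.hom := by
      rw [Category.assoc]
      exact Over.w b
    have hab' : a.left ≫ pullback.fst A.hom (L i).u = b.left ≫ pullback.fst A.hom (L j).u := by
      rw [← qo_left, ← qo_left]
      exact congrArg (fun k => k.left) hab
    have h1 := he2 i j Z.left (a.left ≫ (Red.bc (L i).u A).hom) (b.left ≫ (Red.bc (L j).u A).hom) (ha.trans hb.symm)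
      (Over.homMk a.left rfl) (Over.homMk b.left rfl) hab'
    have h2 := im_φ hG L (i := i) (j := j) (a.left ≫ (Red.bc (L i).u A).hom) (b.left ≫ (Red.bc (L j).u A).hom)
      (ha.trans hb.symm) ((Over.homMk a.left rfl : Over.mk (a.left ≫ (Red.bc (L i).u A).hom) ⟶ Red.bc (L i).u A) ≫
        (e i).hom)
    rw [h1] at h2
    exact h2.symm)
  have hbc : ∀ j : κ, (Over.pullback (L j).u).map f = (e j).hom ≫ (L j).c := by
    intro j
    ext1
    apply pullback.hom_ext
    · have h1 : ((Over.pullback (L j).u).map f).left ≫ pullback.fst G.hom (L j).u =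
        pullback.fst A.hom (L j).u ≫ f.left := by simp
      rw [h1, ← qo_left, ← Over.comp_left, hf]
      exact (Category.assoc _ _ _).symm
    · exact (Over.w _).trans (Over.w _).symm
  have hiso : ∀ j : κ, IsIso (e j).hom.left := fun j =>
    inferInstanceAs (IsIso ((Over.forget _).map (e j).hom))
  have hmon : ∀ j : κ, IsMonHom ((Over.pullback (L j).u).map f) := fun j => by
    have := he1 j
    have := (L j).ci.mon
    rw [hbc]
    exact (inferInstance : IsMonHom ((e j).hom ≫ (L j).c))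
  have hfm := isMonHom_of_bc (fun j => (L j).u) hfl hlf hcov f hmon
  refine ⟨A, inferInstance, f, e, ⟨hA, ?_, fun s => ?_⟩, ⟨hfm, ?_, ?_⟩, he1, hbc⟩
  · refine Parab.RedCover147.smooth_of_cover (Parab.RedCover147.IsEtCov.of_etale (fun j => (L j).u) he hcov) fun j => ?_
    have h1 := (L j).ss.2.1
    rw [← hw]
    infer_instance
  · obtain ⟨j, s', rfl⟩ := hcov s
    have h1 : Grp.mk (L j).H ≅ Grp.mk (Red.bc (L j).u A) := by
      have := he1 j
      exact (Grp.mkIso' (e j)).symm
    have h2 := AlgBc.isSemisimple_of_iso h1 (L j).ss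
    exact (RedBc892U.isSemisimpleOver_geomFibre_bc_iff (L j).u s').1 (h2.2.2 s')
  · refine K197.LocP.of_locally IsIsog f fun s => ?_
    obtain ⟨j, hj⟩ := hcov s
    refine ⟨(L j).U, (L j).u, hfl j, hlf j, hj, ?_⟩
    rw [hbc, Over.comp_left]
    exact (IsIsog.of_isIso _).comp (L j).ci.isog
  · refine ck_of_bc (fun j => (L j).u) hfl hlf hcov f fun j => ?_
    rw [hbc]
    intro T k y hk
    have := he1 j
    have hm : Mono (e j).hom := inferInstance
    rw [← cancel_mono (e j).hom, MonObj.mul_comp, MonObj.mul_comp]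
    refine (L j).ci.ck T _ _ ?_
    rw [Category.assoc]
    exact hk

/-- **The simply connected cover.** -/
theorem main (hG : Red.IsSemisimple G) :
    ∃ (Gsc : Over S) (_ : GrpObj Gsc) (f : Gsc ⟶ G), Red.IsSemisimple Gsc ∧ CI f ∧
      ∀ (G' : Over S) [GrpObj G'] (f' : G' ⟶ G), Red.IsSemisimple G' → CI f' →
        ∃! α : Gsc ⟶ G', CI α ∧ α ≫ f' = f := by
  have hGr : Red.IsReductive G := ⟨hG.1, hG.2.1, fun s => (hG.2.2 s).1⟩
  have key : ∀ s : S, ∃ L : Loc G, Etale L.u ∧ s ∈ Set.range L.u ∧ IsAffine L.U := by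
    intro s
    obtain ⟨B, v, hv, ⟨w, hw⟩, ⟨D⟩, -⟩ := IsomPin848.exists_pinning_pair (fun {S} L _ hL s => by
      obtain ⟨U, f, hf, hs, ⟨D⟩⟩ := Groth.Agent.S2958.result L hL s
      have : Nonempty U := ⟨hs.choose⟩
      exact ⟨U, f, hf, hs, D, SplitReduced415.isReduced D⟩) hGr hGr s
    have : Nonempty (Spec B) := ⟨w⟩
    obtain ⟨H, _, E, c, h1, h2, h3⟩ := exists_cover (RedBcAny636.isSemisimple_bc v hG) D
    exact ⟨⟨Spec B, v, H, E, c, h1, h2, h3⟩, hv, ⟨w, hw⟩, inferInstanceAs (IsAffine (Spec B))⟩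
  choose L h1 h2 h3 using key
  obtain ⟨A, _, f, e, hA, hf, he1, he2⟩ := exists_global hG L h1 (fun s => ⟨s, h2 s⟩) h3
  refine ⟨A, inferInstance, f, hA, hf, fun G' _ f' hG' hf' => ?_⟩
  have := hf.mon
  have := hf'.mon
  obtain ⟨α, hα1, hα2, hα3⟩ := exists_glue hA f f' hf'.ck (fun s => by
    obtain ⟨β, hβ1, hβ2, hβ3⟩ := exists_hom (RedBcAny636.isSemisimple_bc (L s).u hG) (L s).E (L s).sc (L s).ss
      (L s).ci (RedBcAny636.isSemisimple_bc (L s).u hG') (hf'.bc (L s).u)
    have := h1 s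
    have := he1 s
    refine ⟨(L s).U, (L s).u, inferInstance, inferInstance, h2 s, (e s).hom ≫ β, inferInstance, ?_, ?_⟩
    · have : IsIso (e s).hom.left := inferInstanceAs (IsIso ((Over.forget _).map (e s).hom))
      rw [Over.comp_left]
      exact (IsIsog.of_isIso _).comp hβ2
    · rw [Category.assoc, hβ3, he2])
  refine ⟨α, ⟨⟨hα1, hα2, fun T k y hk => ?_⟩, hα3⟩, fun β hβ => ?_⟩
  · refine hf.ck T k y ?_
    rw [← hα3, ← Category.assoc, hk, MonObj.one_comp]
  · have := hβ.1.mon
    exact eq_of_comp_eq hA f' hf'.ck β α (hβ.2.trans hα3.symm)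

end global

end Groth.Agent.Red.K929.Global
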