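import Groth.Agent.Red.K929.Comp
import Groth.Agent.CanPar.K544.IsoInner

/-!
# Two simply connected covers are fppf locally isomorphic
-/

set_option autoImplicit false
open CategoryTheory MonoidalCategory CartesianMonoidalCategory MonObj GrpObj AlgebraicGeometry Limits
universe u

namespace Groth.Agent.Red.K929.Local

open Groth.Agent.Sga3B Groth.Agent.Sga3B.IsomCore Groth.Agent.Sga3B.IsomLocal
  Groth.Agent.Sga3B.BcPts CenKer AdQ ScDatum Cover AdPin Groth.Agent.Red.K929.Comp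

variable {S : Scheme.{u}}

section inn

variable {G : Over S} [GrpObj G] (z : 𝟙_ (Over S) ⟶ G)

/-- conjugation by a section -/
noncomputable def inn : G ⟶ G := (toUnit G ≫ z) * 𝟙 G * (toUnit G ≫ z)⁻¹

lemma comp_inn {X : Over S} (y : X ⟶ G) : y ≫ inn z = (toUnit X ≫ z) * y * (toUnit X ≫ z)⁻¹ := by
  have e : y ≫ toUnit G ≫ z = toUnit X ≫ z := by
    rw [← Category.assoc, toUnit_unique (y ≫ toUnit G) (toUnit X)]
  rw [inn, MonObj.comp_mul, MonObj.comp_mul, GrpObj.comp_inv, e, Category.comp_id]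

instance isMonHom_inn : IsMonHom (inn z) := Pts.isMonHom_of_points _ fun X x y => by
  rw [comp_inn, comp_inn, comp_inn]
  group

lemma inn_comp_inn_inv : inn z ≫ inn z⁻¹ = 𝟙 G := by
  have h : ∀ (X : Over S) (y : X ⟶ G), y ≫ inn z ≫ inn z⁻¹ = y := fun X y => by
    rw [← Category.assoc, comp_inn, comp_inn, GrpObj.comp_inv]
    group
  have := h G (𝟙 G)
  rwa [Category.id_comp] at this

instance isIso_inn : IsIso (inn z) := ⟨inn z⁻¹, inn_comp_inn_inv z, by
  have := inn_comp_inn_inv z⁻¹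
  rwa [_root_.inv_inv] at this⟩

end inn

/-- **Two pinned simply connected covers are fppf locally isomorphic.** -/
theorem exists_iso_local {G H H' : Over S} [GrpObj G] [GrpObj H] [GrpObj H'] (hG : Red.IsSemisimple G)
    (E : Red.Pinning H) (hc : IsSC E.P) (hH : Red.IsSemisimple H) {f : H ⟶ G} (hf : CI f)
    (E' : Red.Pinning H') (hc' : IsSC E'.P) (hH' : Red.IsSemisimple H') {c : H' ⟶ G} (hcc : CI c) (s : S) :
    ∃ (U : Scheme.{u}) (v : U ⟶ S), Flat v ∧ LocallyOfFinitePresentation v ∧ s ∈ Set.range v ∧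
      ∃ ψ : Red.bc v H ⟶ Red.bc v H', IsMonHom ψ ∧ IsIso ψ ∧
        ψ ≫ (Over.pullback v).map c = (Over.pullback v).map f := by
  have : Nonempty S := ⟨s⟩
  have hs := spans E.toSplitRed hH
  have hs' := spans E'.toSplitRed hH'
  obtain ⟨A, _, p, D, σ, i, h⟩ := exists_adData E hs
  obtain ⟨A', _, p', D', σ', i', h'⟩ := exists_adData E' hs'
  have := hG.2.1
  have := hH.2.1
  have := hH'.2.1
  have : Smooth A.hom := D.reductive.2.1
  have : Smooth A'.hom := D'.reductive.2.1
  have := hf.mon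
  have := hf.flat
  have := hf.surj
  have := hcc.mon
  have := hcc.flat
  have := hcc.surj
  have hfl : LocallyOfFinitePresentation f.left := by
    have : LocallyOfFinitePresentation (f.left ≫ G.hom) := by rw [Over.w]; infer_instance
    exact Groth.Agent.Flat2D.LfpComp.lfp_of_comp f.left G.hom
  have hcl : LocallyOfFinitePresentation c.left := by
    have : LocallyOfFinitePresentation (c.left ≫ G.hom) := by rw [Over.w]; infer_instance
    exact Groth.Agent.Flat2D.LfpComp.lfp_of_comp c.left G.hom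
  obtain ⟨a, ha1, ha2⟩ := exists_adQ hH f hf.ck h.adQ
  obtain ⟨a', ha1', ha2'⟩ := exists_adQ hH' c hcc.ck h'.adQ
  obtain ⟨b, hb⟩ := ha2.exists_iso ha2'
  choose fe ε hfe hε using exists_fe_lift h h' hs hs' hc hc'
  let X : Over S := Over.mk (𝟙 S)
  obtain ⟨V₁, v₁, hv1, hv2, hv3, e, g₁, hg₁⟩ := h1_of D D' (IsomHa505.haStmt D.toSplitRed D'.toSplitRed)
    (ChartFam.hbStmt D.toSplitRed D'.toSplitRed) (IsomHd848.hdStmt D D')
    (IsomHe832.heStmt_of_models D (fun R _ s => PinModelOf.nonempty_pinModel D R s)) fe hfe X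
    (fst A X ≫ b.hom.hom.hom) (isIsoFamily_const b) s
  have := h'.adQ.flat
  have := h'.adQ.surj
  obtain ⟨V, t, g, ht1, ht2, -, hg, ht3⟩ := exists_lift p' g₁
  have ht3 := ht3 h'.adQ.lfp
  have hVhom : V.hom = t.left ≫ v₁.left := by
    rw [← Over.comp_left, ← Over.w (t ≫ v₁)]
    exact Category.comp_id _
  let U : Scheme.{u} := V.left
  let v : U ⟶ S := V.hom
  have hc1 : Flat v := by
    change Flat V.hom
    rw [hVhom]
    infer_instance
  have hc2 : LocallyOfFinitePresentation v := by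
    change LocallyOfFinitePresentation V.hom
    rw [hVhom]
    infer_instance
  have hc3 : s ∈ Set.range v := by
    obtain ⟨y, hy⟩ := hv3
    obtain ⟨w, hw⟩ := t.left.surjective y
    refine ⟨w, ?_⟩
    change V.hom w = s
    rw [hVhom, Scheme.Hom.comp_apply, hw]
    exact hy
  let k : (Over.map v).obj (𝟙_ (Over U)) ⟶ V := Over.homMk (𝟙 _) (by
    change 𝟙 _ ≫ V.hom = 𝟙 _ ≫ V.hom
    rfl)
  let z : 𝟙_ (Over U) ⟶ Red.bc v H' := bcEquiv v _ H' (k ≫ g)
  have hz : ∀ (Y : Over U), toUnit Y ≫ z = bcEquiv v Y H' ((Over.homMk Y.hom : (Over.map v).obj Y ⟶ V) ≫ g) := by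
    intro Y
    rw [← comp_bcEquiv, ← Category.assoc]
    congr 2
  have hε1 : IsIso (ε e).hom.hom.hom := ((Grp.forget _).mapIso (ε e)).isIso_hom
  let ψ : Red.bc v H ⟶ Red.bc v H' := (Over.pullback v).map (ε e).hom.hom.hom ≫ inn z
  have hψ1 : IsMonHom ψ := inferInstance
  have hψ2 : IsIso ψ := inferInstance
  have hψ : ∀ (Y : Over U) (y : (Over.map v).obj Y ⟶ H), bcEquiv v Y H y ≫ ψ =
      bcEquiv v Y H' (((Over.homMk Y.hom : (Over.map v).obj Y ⟶ V) ≫ g) * (y ≫ (ε e).hom.hom.hom) *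
        ((Over.homMk Y.hom : (Over.map v).obj Y ⟶ V) ≫ g)⁻¹) := by
    intro Y y
    have e0 : ∀ x : (Over.map v).obj Y ⟶ H', bcEquiv v Y H' x⁻¹ = (bcEquiv v Y H' x)⁻¹ :=
      fun x => map_inv (bcMulEquiv v Y H') x
    rw [bcEquiv_mul, bcEquiv_mul, e0, ← hz, bcEquiv_comp, ← comp_inn, Category.assoc]
  refine ⟨U, v, hc1, hc2, hc3, ψ, hψ1, hψ2, ?_⟩
  have hHU : Red.IsSemisimple (Red.bc v H) := RedBcAny636.isSemisimple_bc v hH
  have := ha2'.mon
  have hck : CK (H := Red.bc v G) (G := Red.bc v A') ((Over.pullback v).map a') := ha2'.ck.bc v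
  refine eq_of_comp_eq hHU ((Over.pullback v).map a') hck _ _ ?_
  have key : ∀ (Y : Over U) (y : Y ⟶ Red.bc v H), y ≫ (ψ ≫ (Over.pullback v).map c) ≫ (Over.pullback v).map a' =
      y ≫ (Over.pullback v).map f ≫ (Over.pullback v).map a' := by
    intro Y y
    obtain ⟨y, rfl⟩ := (bcEquiv v Y H).surjective y
    rw [Category.assoc, ← Category.assoc, hψ, ← Functor.map_comp, ha1', ← bcEquiv_comp, ← Functor.map_comp,
      ← bcEquiv_comp]
    congr 1
    have := h'.adQ.mon
    rw [MonObj.mul_comp, MonObj.mul_comp, GrpObj.inv_comp, Category.assoc, Category.assoc, hg, ← hε]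
    have h1 := hg₁ _ ((Over.homMk Y.hom : (Over.map v).obj Y ⟶ V) ≫ t) (y ≫ p)
    rw [← Category.assoc (lift _ _), lift_fst] at h1
    rw [← hb, ← Category.assoc f, ha1, ← Category.assoc y p b.hom.hom.hom, h1]
    simp only [Category.assoc]
  have := key _ (𝟙 _)
  rwa [Category.id_comp, Category.id_comp] at this

end Groth.Agent.Red.K929.Local
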